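import Groth.Agent.ForSys.Planes

/-!
# General members of the system of forms through a linear subspace are smooth
-/

set_option autoImplicit false

universe u

namespace Groth.Agent.ForSys

open MvPolynomial

/-- A projection of a set whose generic points have small transcendence degree lies in a hypersurface. -/
theorem exists_poly_of_generic {k : Type u} [Field k] [IsAlgClosed k] {Ω P : Type u} [Fintype Ω] [Fintype P]
    (B : Set ((Ω ⊕ P) → k))
    (h : ∀ (L : Type u) [Field L] [IsAlgClosed L] [Algebra k L] (x : Ω ⊕ P → L),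
      (∀ f : MvPolynomial (Ω ⊕ P) k, (∀ c ∈ B, eval c f = 0) → aeval x f = 0) →
      ∃ T : Set (Ω ⊕ P), T.ncard < Fintype.card Ω ∧
        ∀ ω : Ω, IsAlgebraic (IntermediateField.adjoin k (x '' T)) (x (Sum.inl ω))) :
    ∃ f : MvPolynomial Ω k, f ≠ 0 ∧ ∀ c ∈ B, eval (fun ω => c (Sum.inl ω)) f = 0 := by
  classical
  let Ib : Ideal (MvPolynomial (Ω ⊕ P) k) := ⨅ c : B, RingHom.ker (eval (c : Ω ⊕ P → k))
  have hIb : ∀ f, f ∈ Ib ↔ ∀ c ∈ B, eval c f = 0 := fun f => by simp [Ib]
  have hker : ∀ q ∈ Ib.minimalPrimes, ∃ f : MvPolynomial Ω k, f ≠ 0 ∧ rename Sum.inl f ∈ q := by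
    intro q hq
    haveI := hq.1.1
    let A := MvPolynomial (Ω ⊕ P) k ⧸ q
    let L := AlgebraicClosure (FractionRing A)
    let ι : A →ₐ[k] L := IsScalarTower.toAlgHom k A L
    have hι : Function.Injective ι := fun a b hab => by
      refine ((RingHom.injective (algebraMap (FractionRing A) L)).comp (IsFractionRing.injective A (FractionRing A))) ?_
      simp only [Function.comp_apply, ← IsScalarTower.algebraMap_apply]
      exact hab
    let x : Ω ⊕ P → L := fun y => ι (Ideal.Quotient.mk q (X y))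
    have hx : aeval x = ι.comp (Ideal.Quotient.mkₐ k q) := MvPolynomial.algHom_ext fun y => aeval_X _ _
    obtain ⟨T, hT, halg⟩ := h L x fun f hf => by
      rw [hx, AlgHom.comp_apply, Ideal.Quotient.mkₐ_eq_mk, Ideal.Quotient.eq_zero_iff_mem.mpr (hq.1.2 ((hIb f).mpr hf)),
        map_zero]
    have hdep : ¬ AlgebraicIndependent k fun ω => x (Sum.inl ω) := by
      intro hind
      let Y : Set (Ω ⊕ P) := Set.range Sum.inl ∪ T
      let x' : Y → L := fun y => x y
      have hle := trdeg_adjoin_le (k := k) x' {y | (y : Ω ⊕ P) ∈ T} (Set.toFinite _) fun y => by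
        rw [show x' '' {y : Y | (y : Ω ⊕ P) ∈ T} = x '' T from Set.ext fun z => ⟨fun ⟨y, hy, hz⟩ => ⟨y.1, hy, hz⟩,
          fun ⟨y, hy, hz⟩ => ⟨⟨y, Or.inr hy⟩, hy, hz⟩⟩]
        obtain ⟨_, ⟨ω, rfl⟩ | hyT⟩ := y
        · exact halg ω
        · exact isAlgebraic_algebraMap
            (⟨_, IntermediateField.subset_adjoin _ _ ⟨_, hyT, rfl⟩⟩ : IntermediateField.adjoin k (x '' T))
      let g : Ω → Algebra.adjoin k (Set.range x') := fun ω =>
        ⟨x (Sum.inl ω), Algebra.subset_adjoin ⟨⟨Sum.inl ω, Or.inl ⟨ω, rfl⟩⟩, rfl⟩⟩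
      have hg : AlgebraicIndependent k g := AlgebraicIndependent.of_comp (Algebra.adjoin k (Set.range x')).val hind
      have h1 := hg.cardinalMk_le_trdeg.trans hle
      have h2 : Set.ncard {y : Y | (y : Ω ⊕ P) ∈ T} ≤ T.ncard :=
        Set.ncard_le_ncard_of_injOn Subtype.val (fun y hy => hy) Subtype.val_injective.injOn
      rw [Cardinal.mk_fintype] at h1
      have h3 : Fintype.card Ω ≤ Set.ncard {y : Y | (y : Ω ⊕ P) ∈ T} := by exact_mod_cast h1
      omega
    rw [algebraicIndependent_iff] at hdep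
    push Not at hdep
    obtain ⟨f, hf, hf0⟩ := hdep
    refine ⟨f, hf0, ?_⟩
    rw [← Ideal.Quotient.eq_zero_iff_mem]
    refine hι ?_
    rw [map_zero, ← Ideal.Quotient.mkₐ_eq_mk k, ← AlgHom.comp_apply, ← hx, aeval_rename]
    exact hf
  choose g hg0 hg using hker
  haveI := (Ideal.finite_minimalPrimes_of_isNoetherianRing _ Ib).fintype
  refine ⟨∏ q : Ib.minimalPrimes, g q.1 q.2, Finset.prod_ne_zero_iff.mpr fun q _ => hg0 q.1 q.2, fun c hc => ?_⟩
  rw [map_prod]
  haveI : (RingHom.ker (eval c)).IsPrime := RingHom.ker_isPrime _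
  obtain ⟨q, hq, hqle⟩ := Ideal.exists_minimalPrimes_le
    (show Ib ≤ RingHom.ker (eval c) from fun f hf => (hIb f).mp hf c hc)
  refine Finset.prod_eq_zero (Finset.mem_univ ⟨q, hq⟩) ?_
  have := hqle (hg q hq)
  rwa [RingHom.mem_ker, eval_rename] at this

/-- A linear system with spanning columns determines as many unknowns as it has rows. -/
theorem exists_solved {k L : Type u} [Field k] [Field L] [Algebra k L] {Ω ρ : Type u} [Fintype Ω] [Fintype ρ]
    (col : Ω → ρ → L) (c : Ω → L) (hspan : Submodule.span L (Set.range col) = ⊤) (hc : ∑ b, c b • col b = 0) :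
    ∃ S : Finset Ω, S.card = Fintype.card ρ ∧ ∀ F : IntermediateField k L, (∀ b r, col b r ∈ F) →
      (∀ b, b ∉ S → c b ∈ F) → ∀ b, c b ∈ F := by
  classical
  obtain ⟨B, hBsub, hBspan, hBlin⟩ := exists_linearIndependent L (Set.range col)
  rw [hspan] at hBspan
  let Bb := Module.Basis.mk hBlin (by rw [Subtype.range_coe, hBspan])
  haveI : Finite B := ((Set.finite_range col).subset hBsub).to_subtype
  haveI : Fintype B := Fintype.ofFinite _
  choose pre hpre using fun y : B => hBsub y.2
  have hpre_inj : Function.Injective pre := fun y z h => Subtype.ext (by rw [← hpre y, ← hpre z, h])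
  refine ⟨Finset.univ.image pre, ?_, fun F hF hcF b => ?_⟩
  · rw [Finset.card_image_of_injective _ hpre_inj, Finset.card_univ, ← Module.finrank_eq_card_basis Bb,
      Module.finrank_pi]
  by_cases hb : b ∈ Finset.univ.image pre
  swap
  · exact hcF b hb
  obtain ⟨y₀, -, rfl⟩ := Finset.mem_image.mp hb
  let w : B → ρ → F := fun y r => ⟨col (pre y) r, hF _ r⟩
  have hw : LinearIndependent F w := by
    have h1 : LinearIndependent F fun y : B => (y : ρ → L) := hBlin.restrict_scalars (by
      intro a b hab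
      simp only [Algebra.smul_def, mul_one] at hab
      exact Subtype.val_injective hab)
    have h2 : (fun y : B => (y : ρ → L)) = (LinearMap.compLeft (F.val.toLinearMap : F →ₗ[k] L) ρ) ∘ w :=
      funext fun y => funext fun r => (congrFun (hpre y) r).symm
    rw [Fintype.linearIndependent_iff] at h1 ⊢
    intro g hg
    refine h1 g (funext fun r => ?_)
    have h3 := congrArg (Subtype.val : F → L) (congrFun hg r)
    simp only [Finset.sum_apply, Pi.smul_apply, Pi.zero_apply] at h3 ⊢
    rw [AddSubmonoidClass.coe_finsetSum] at h3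
    refine Eq.trans (Finset.sum_congr rfl fun y _ => ?_) h3
    rw [Algebra.smul_def, congrFun h2 y]
    rfl
  let rest : ρ → F := fun r => ⟨-∑ b ∈ (Finset.univ.image pre)ᶜ, c b * col b r,
    neg_mem (sum_mem fun b hb => mul_mem (hcF b (Finset.mem_compl.mp hb)) (hF b r))⟩
  have htop : Submodule.span F (Set.range w) = ⊤ :=
    hw.span_eq_top_of_card_eq_finrank' (by rw [Module.finrank_pi, ← Module.finrank_eq_card_basis Bb, Module.finrank_pi])
  obtain ⟨e, he⟩ := (Submodule.mem_span_range_iff_exists_fun F).mp (htop ▸ Submodule.mem_top : rest ∈ Submodule.span F (Set.range w))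
  have hzero : ∑ y : B, ((e y : L) - c (pre y)) • (y : ρ → L) = 0 := by
    funext r
    have h1 := congrArg (Subtype.val : F → L) (congrFun he r)
    simp only [Finset.sum_apply, Pi.smul_apply, Pi.zero_apply, smul_eq_mul] at h1 ⊢
    rw [AddSubmonoidClass.coe_finsetSum] at h1
    have h2 := congrFun hc r
    simp only [Finset.sum_apply, Pi.smul_apply, Pi.zero_apply, smul_eq_mul] at h2
    rw [← Finset.sum_add_sum_compl (Finset.univ.image pre), Finset.sum_image hpre_inj.injOn] at h2
    simp only [sub_mul, Finset.sum_sub_distrib]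
    have h1' : ∑ y : B, (e y : L) * (y : ρ → L) r = -∑ b ∈ (Finset.univ.image pre)ᶜ, c b * col b r := by
      refine Eq.trans (Finset.sum_congr rfl fun y _ => ?_) h1
      rw [← congrFun (hpre y) r]
      rfl
    have h2' : ∑ y : B, c (pre y) * (y : ρ → L) r = ∑ y : B, c (pre y) * col (pre y) r :=
      Finset.sum_congr rfl fun y _ => by rw [hpre y]
    rw [h1', h2', eq_neg_of_add_eq_zero_left h2, sub_self]
  have := Fintype.linearIndependent_iff.mp hBlin _ hzero y₀
  rw [← sub_eq_zero.mp this]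
  exact (e y₀).2

theorem exists_chart' {k : Type u} [Field k] {n : ℕ} (U : Submodule k (Fin (n + 1) → k)) :
    ∃ (s : Fin (Module.finrank k U) → Fin (n + 1)) (a : Fin (n + 1) → Fin (Module.finrank k U) → k),
      Function.Injective s ∧ ∀ u, u ∈ U ↔ ∀ i, i ∉ Set.range s → u i = ∑ l, a i l * u (s l) := by
  classical
  rcases Nat.eq_zero_or_pos (Module.finrank k U) with h0 | h0
  · have hU : U = ⊥ := Submodule.finrank_eq_zero.mp h0
    haveI : IsEmpty (Fin (Module.finrank k U)) := by rw [h0]; infer_instance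
    refine ⟨isEmptyElim, fun _ => isEmptyElim, Function.injective_of_subsingleton _, fun u => ?_⟩
    refine ⟨fun hu i _ => ?_, fun h => ?_⟩
    · rw [(Submodule.eq_bot_iff U).mp hU u hu]
      simp
    · have h' : u = 0 := funext fun i => (h i (by rintro ⟨l, -⟩; exact isEmptyElim l)).trans (by simp)
      rw [h']
      exact U.zero_mem
  · obtain ⟨m, hm⟩ : ∃ m, Module.finrank k U = m + 1 := ⟨_, (Nat.succ_pred_eq_of_pos h0).symm⟩
    obtain ⟨s, a, hs, hUa⟩ := exists_chart U hm
    rw [hm]
    refine ⟨s, fun i l => if h : i ∈ Set.range s then 0 else a (⟨i, h⟩, l), hs, fun u => ?_⟩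
    rw [← SetLike.mem_coe, hUa]
    refine ⟨fun h i hi => ?_, fun h i => ?_⟩
    · simpa [hi] using h ⟨i, hi⟩
    · simpa [i.2] using h i.1 i.2

theorem aeval_pderiv_mul_pow {k L : Type u} [Field k] [Field L] [Algebra k L] {n : ℕ} (v : Fin (n + 1) → L)
    (a j : Fin (n + 1)) (hva : v a = 1) (p : MvPolynomial (Fin (n + 1)) k) (e : ℕ) :
    aeval v (pderiv j (p * X a ^ e)) = aeval v (pderiv j p) + (if j = a then (e : L) * aeval v p else 0) := by
  classical
  rw [Derivation.leibniz, map_add, Derivation.leibniz_pow]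
  simp only [smul_eq_mul, map_mul, map_pow, aeval_X, hva, one_pow, one_mul, nsmul_eq_mul, map_natCast]
  rw [pderiv_X]
  by_cases h : j = a
  · subst h; simp [mul_comm, add_comm]
  · simp [Ne.symm h, h]

/-- In a chart, the singular members through a linear subspace lie in a hypersurface of the system. -/
theorem exists_poly_bertini {k : Type u} [Field k] [IsAlgClosed k] {n d : ℕ} (hd : 2 ≤ d)
    (U : Submodule k (Fin (n + 1) → k)) (hU : 2 * Module.finrank k U ≤ n + 1)
    (W : Submodule k (LefPen.Form n k d)) (hW : ∀ G : LefPen.Form n k d, G ∈ W ↔ ∀ u ∈ U, eval u G.1 = 0)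
    {Ω : Type u} [Fintype Ω] (b : Module.Basis Ω k W) (a : Fin (n + 1)) :
    ∃ f : MvPolynomial Ω k, f ≠ 0 ∧ ∀ G : W, ∀ v : Fin (n + 1) → k, v a = 1 → eval v G.1.1 = 0 →
      (∀ i, eval v (pderiv i G.1.1) = 0) → eval (fun ω => b.repr G ω) f = 0 := by
  classical
  obtain ⟨s, A, hs, hUA⟩ := exists_chart' U
  let lam : Fin (n + 1) → MvPolynomial (Fin (n + 1)) k := fun i => X i - ∑ l, C (A i l) * X (s l)
  have hlam : ∀ i, (lam i).IsHomogeneous 1 := fun i => (isHomogeneous_X _ _).sub (IsHomogeneous.sum _ _ _ fun l _ => by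
    simpa using (isHomogeneous_C _ (A i l)).mul (isHomogeneous_X k (s l)))
  let P := ULift.{u} (Fin (n + 1))
  let B : Set (Ω ⊕ P → k) := {c | c (Sum.inr ⟨a⟩) = 1 ∧
    (∑ ω, c (Sum.inl ω) * eval (fun i => c (Sum.inr ⟨i⟩)) (b ω).1.1 = 0) ∧
    ∀ j, ∑ ω, c (Sum.inl ω) * eval (fun i => c (Sum.inr ⟨i⟩)) (pderiv j (b ω).1.1) = 0}
  have hGsum : ∀ G : W, G.1.1 = ∑ ω, b.repr G ω • (b ω).1.1 := fun G => by
    conv_lhs => rw [← b.sum_repr G]
    exact (map_sum ((CohB1.polyGrading n k d).subtype.comp W.subtype) _ _).trans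
      (Finset.sum_congr rfl fun ω _ => map_smul _ _ _)
  suffices hex : ∃ f : MvPolynomial Ω k, f ≠ 0 ∧ ∀ c ∈ B, eval (fun ω => c (Sum.inl ω)) f = 0 by
    obtain ⟨f, hf0, hf⟩ := hex
    refine ⟨f, hf0, fun G v hva hv hd' => hf (Sum.elim (fun ω => b.repr G ω) fun i => v i.down) ⟨hva, ?_, fun j => ?_⟩⟩
    · rw [← hv, hGsum G, map_sum]
      simp [smul_eval]
    · rw [← hd' j, hGsum G, map_sum, map_sum]
      simp [smul_eval]
  refine exists_poly_of_generic B fun L _ _ _ x hx => ?_
  let v : Fin (n + 1) → L := fun i => x (Sum.inr ⟨i⟩)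
  have hva : v a = 1 := by
    have h1 := hx (X (Sum.inr ⟨a⟩) - 1) fun c hc => by simp [hc.1]
    simpa [sub_eq_zero] using h1
  have heq : ∀ D : MvPolynomial (Fin (n + 1)) k →ₗ[k] MvPolynomial (Fin (n + 1)) k,
      (∀ c ∈ B, ∑ ω, c (Sum.inl ω) * eval (fun i => c (Sum.inr ⟨i⟩)) (D (b ω).1.1) = 0) →
      ∑ ω, x (Sum.inl ω) * aeval v (D (b ω).1.1) = 0 := fun D hD => by
    have h1 := hx (∑ ω, X (Sum.inl ω) * rename (fun i => Sum.inr ⟨i⟩) (D (b ω).1.1)) fun c hc => by
      simpa [eval_rename, Function.comp_def] using hD c hc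
    simpa [aeval_rename, Function.comp_def, v] using h1
  have h0 := heq LinearMap.id fun c hc => hc.2.1
  have h1 : ∀ j, ∑ ω, x (Sum.inl ω) * aeval v (pderiv j (b ω).1.1) = 0 := fun j =>
    heq (pderiv j).toLinearMap fun c hc => hc.2.2 j
  have hmem : ∀ (i : Fin (n + 1)), i ∉ Set.range s → ∀ q : MvPolynomial (Fin (n + 1)) k, q.IsHomogeneous (d - 1) →
      ∃ G : W, G.1.1 = lam i * q := fun i hi q hq => by
    have hh : (lam i * q).IsHomogeneous d := by
      have := (hlam i).mul hq
      rwa [show 1 + (d - 1) = d by omega] at this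
    refine ⟨⟨⟨lam i * q, hh⟩, (hW _).mpr fun u hu => ?_⟩, rfl⟩
    rw [map_mul]
    simp [lam, (hUA u).mp hu i hi]
  have hjet : ∀ {ρ : Type u} (D : ρ → MvPolynomial (Fin (n + 1)) k →ₗ[k] MvPolynomial (Fin (n + 1)) k) (G : W),
      (fun r => aeval v (D r G.1.1)) ∈ Submodule.span L (Set.range fun ω r => aeval v (D r (b ω).1.1)) := fun D G => by
    rw [show (fun r => aeval v (D r G.1.1)) = ∑ ω, algebraMap k L (b.repr G ω) • fun r => aeval v (D r (b ω).1.1) from
      funext fun r => by
        rw [hGsum G, map_sum, map_sum, Finset.sum_apply]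
        refine Finset.sum_congr rfl fun ω _ => ?_
        rw [map_smul, map_smul, Pi.smul_apply, smul_eq_mul, Algebra.smul_def]]
    exact Submodule.sum_mem _ fun ω _ => Submodule.smul_mem _ _ (Submodule.subset_span ⟨ω, rfl⟩)
  have finish : ∀ {ρ : Type u} [Fintype ρ] (D : ρ → MvPolynomial (Fin (n + 1)) k →ₗ[k] MvPolynomial (Fin (n + 1)) k),
      Submodule.span L (Set.range fun ω r => aeval v (D r (b ω).1.1)) = ⊤ →
      (∀ r, ∑ ω, x (Sum.inl ω) * aeval v (D r (b ω).1.1) = 0) →
      ∀ V : Finset P, V.card < Fintype.card ρ →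
      (∀ F : IntermediateField k L, (∀ i ∈ V, x (Sum.inr i) ∈ F) → ∀ i, v i ∈ F) →
      ∃ T : Set (Ω ⊕ P), T.ncard < Fintype.card Ω ∧
        ∀ ω : Ω, IsAlgebraic (IntermediateField.adjoin k (x '' T)) (x (Sum.inl ω)) := by
    intro ρ _ D hspan hsum V hV hVF
    obtain ⟨S, hScard, hS⟩ := exists_solved (k := k) (fun ω r => aeval v (D r (b ω).1.1)) (fun ω => x (Sum.inl ω)) hspan
      (funext fun r => by simpa using hsum r)
    refine ⟨↑(Sᶜ.disjSum V), ?_, fun ω => ?_⟩
    · rw [Set.ncard_coe_finset, Finset.card_disjSum, Finset.card_compl]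
      have := S.card_le_univ
      omega
    · set F := IntermediateField.adjoin k (x '' ↑(Sᶜ.disjSum V))
      have hvF : ∀ i, v i ∈ F := hVF F fun i hi =>
        IntermediateField.subset_adjoin _ _ ⟨Sum.inr i, Finset.mem_coe.mpr (Finset.inr_mem_disjSum.mpr hi), rfl⟩
      have hω := hS F (fun b' r => by
          induction D r (b b').1.1 using MvPolynomial.induction_on with
          | C t => rw [aeval_C]; exact F.algebraMap_mem t
          | add p q hp hq => rw [map_add]; exact add_mem hp hq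
          | mul_X p i hp => rw [map_mul, aeval_X]; exact mul_mem hp (hvF i))
        (fun b' hb' => IntermediateField.subset_adjoin _ _
          ⟨Sum.inl b', Finset.mem_coe.mpr (Finset.inl_mem_disjSum.mpr (Finset.mem_compl.mpr hb')), rfl⟩) ω
      exact isAlgebraic_algebraMap (⟨_, hω⟩ : F)
  by_cases hvU : ∀ i, i ∉ Set.range s → v i = ∑ l, algebraMap k L (A i l) * v (s l)
  · -- the point lies on the subspace
    let ρ := ULift.{u} {i : Fin (n + 1) // i ∉ Set.range s}
    have hlamv : ∀ i, i ∉ Set.range s → aeval v (lam i) = 0 := fun i hi => by simp [lam, hvU i hi]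
    have hl : ∃ l, ∀ F : IntermediateField k L, (∀ l', l' ≠ l → v (s l') ∈ F) → v (s l) ∈ F := by
      by_cases ha : a ∈ Set.range s
      · obtain ⟨l, rfl⟩ := ha
        exact ⟨l, fun F _ => by rw [hva]; exact F.one_mem⟩
      · have h2 := hvU a ha
        rw [hva] at h2
        obtain ⟨l, -, hl⟩ := Finset.exists_ne_zero_of_sum_ne_zero (by rw [← h2]; exact one_ne_zero)
        refine ⟨l, fun F hF => ?_⟩
        have hA : algebraMap k L (A a l) ≠ 0 := fun h => hl (by rw [h, zero_mul])
        rw [← Finset.add_sum_erase _ _ (Finset.mem_univ l)] at h2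
        rw [show v (s l) = (algebraMap k L (A a l))⁻¹ * (1 - ∑ l' ∈ Finset.univ.erase l, algebraMap k L (A a l') * v (s l')) by
          rw [eq_inv_mul_iff_mul_eq₀ hA]; linear_combination -h2]
        exact mul_mem (inv_mem (F.algebraMap_mem _)) (sub_mem F.one_mem (sum_mem fun l' hl' =>
          mul_mem (F.algebraMap_mem _) (hF l' (Finset.ne_of_mem_erase hl'))))
    obtain ⟨l, hl⟩ := hl
    refine finish (ρ := ρ) (fun r => (pderiv r.down.1).toLinearMap) ?_ (fun r => h1 _)
      ((Finset.univ.erase l).image fun l' => (⟨s l'⟩ : P)) ?_ fun F hF i => ?_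
    · rw [eq_top_iff, ← (Pi.basisFun L ρ).span_eq, Submodule.span_le]
      rintro _ ⟨⟨⟨i, hi⟩⟩, rfl⟩
      obtain ⟨G, hG⟩ := hmem i hi (X a ^ (d - 1)) (by simpa using (isHomogeneous_X k a).pow (d - 1))
      have h2 := hjet (fun r : ρ => (pderiv r.down.1).toLinearMap) G
      rw [SetLike.mem_coe]
      convert h2 using 1
      funext ⟨⟨j, hj⟩⟩
      show _ = aeval v (pderiv j G.1.1)
      rw [hG, aeval_pderiv_mul_pow v a j hva, hlamv i hi]
      have hjs : ∀ l', s l' ≠ j := fun l' h => hj ⟨l', h⟩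
      simp [lam, pderiv_X, Pi.single_apply, Pi.basisFun_apply, hjs, apply_ite (aeval v), eq_comm]
      exact if_congr ⟨fun h => by subst h; rfl, fun h => congrArg (fun r : ρ => r.down.1) h⟩ rfl rfl
    · rw [Finset.card_image_of_injective _ fun p q h => hs (congrArg ULift.down h), Finset.card_erase_of_mem (Finset.mem_univ l),
        Finset.card_univ, Fintype.card_fin, Fintype.card_ulift, Fintype.card_subtype_compl,
        Set.card_range_of_injective hs, Fintype.card_fin, Fintype.card_fin]
      have := l.2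
      omega
    · have hsl : ∀ l', v (s l') ∈ F := fun l' => by
        by_cases h : l' = l
        · subst h
          exact hl F fun l'' hne => hF _ (Finset.mem_image.mpr ⟨l'', Finset.mem_erase.mpr ⟨hne, Finset.mem_univ _⟩, rfl⟩)
        · exact hF _ (Finset.mem_image.mpr ⟨l', Finset.mem_erase.mpr ⟨h, Finset.mem_univ _⟩, rfl⟩)
      by_cases hi : i ∈ Set.range s
      · obtain ⟨l', rfl⟩ := hi; exact hsl l'
      · rw [hvU i hi]; exact sum_mem fun l' _ => mul_mem (F.algebraMap_mem _) (hsl l')
  · push Not at hvU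
    obtain ⟨i₀, hi₀, hne⟩ := hvU
    let t := aeval v (lam i₀)
    have ht : t ≠ 0 := by
      simp only [t, lam, map_sub, aeval_X, map_sum, map_mul, aeval_C]
      exact sub_ne_zero.mpr hne
    let ρ := ULift.{u} (Option {j : Fin (n + 1) // j ≠ a})
    let D : ρ → MvPolynomial (Fin (n + 1)) k →ₗ[k] MvPolynomial (Fin (n + 1)) k := fun r =>
      match r.down with
      | none => LinearMap.id
      | some j => (pderiv j.1).toLinearMap
    refine finish (ρ := ρ) D ?_ (fun r => ?_) ((Finset.univ.erase a).image fun i => (⟨i⟩ : P)) ?_ fun F hF i => ?_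
    · obtain ⟨G₀, hG₀⟩ := hmem i₀ hi₀ (X a ^ (d - 1)) (by simpa using (isHomogeneous_X k a).pow (d - 1))
      have hG₀0 : ∀ j, aeval v (D ⟨some j⟩ G₀.1.1) = aeval v (pderiv j.1 (lam i₀)) := fun j => by
        show aeval v (pderiv j.1 G₀.1.1) = _
        rw [hG₀, aeval_pderiv_mul_pow v a _ hva, if_neg j.2, add_zero]
      have hG₀1 : aeval v (D ⟨none⟩ G₀.1.1) = t := by
        show aeval v G₀.1.1 = t
        simp [hG₀, hva, t]
      have hsome : ∀ j : {j : Fin (n + 1) // j ≠ a}, Pi.single (⟨some j⟩ : ρ) (1 : L) ∈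
          Submodule.span L (Set.range fun ω r => aeval v (D r (b ω).1.1)) := by
        intro j
        obtain ⟨G, hG⟩ := hmem i₀ hi₀ (X j.1 * X a ^ (d - 2)) (by
          have := (isHomogeneous_X k j.1).mul ((isHomogeneous_X k a).pow (d - 2))
          rwa [show 1 + 1 * (d - 2) = d - 1 by omega] at this)
        have h2 := Submodule.smul_mem _ t⁻¹ (sub_mem (hjet D G) (Submodule.smul_mem _ (v j.1) (hjet D G₀)))
        convert h2 using 1
        funext ⟨r⟩
        simp only [Pi.smul_apply, Pi.sub_apply, smul_eq_mul]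
        rcases r with _ | r
        · rw [hG₀1, Pi.single_apply, if_neg (by simp)]
          show (0 : L) = _ * (aeval v G.1.1 - _)
          simp [hG, hva, t, mul_comm]
        · rw [hG₀0]
          show _ = _ * (aeval v (pderiv r.1 G.1.1) - _)
          rw [hG, ← mul_assoc, aeval_pderiv_mul_pow v a _ hva, if_neg r.2, add_zero, pderiv_mul, map_add, map_mul, map_mul,
            aeval_X, pderiv_X, Pi.single_apply (i := r.1), apply_ite (aeval v), map_one, map_zero]
          by_cases hrj : r = j
          · subst hrj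
            rw [Pi.single_eq_same, if_pos rfl, mul_one, show aeval v (lam i₀) = t from rfl]
            field_simp
            ring
          · rw [Pi.single_eq_of_ne (fun h => hrj (Option.some_inj.mp (congrArg ULift.down h))),
              if_neg (fun h => hrj (Subtype.ext h.symm))]
            ring
      rw [eq_top_iff, ← (Pi.basisFun L ρ).span_eq, Submodule.span_le]
      rintro _ ⟨⟨_ | j⟩, rfl⟩
      · have h3 : (∑ j : {j : Fin (n + 1) // j ≠ a}, aeval v (D ⟨some j⟩ G₀.1.1) • Pi.single (⟨some j⟩ : ρ) (1 : L)) ∈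
            Submodule.span L (Set.range fun ω r => aeval v (D r (b ω).1.1)) :=
          Submodule.sum_mem _ fun j _ => Submodule.smul_mem _ _ (hsome j)
        have h2 := Submodule.smul_mem _ t⁻¹ (sub_mem (hjet D G₀) h3)
        rw [SetLike.mem_coe]
        convert h2 using 1
        funext ⟨r⟩
        simp only [Pi.smul_apply, Pi.sub_apply, Finset.sum_apply, smul_eq_mul, Pi.basisFun_apply, Pi.single_apply]
        rcases r with _ | r
        · simp [hG₀1, ht]
        · simp
          exact fun h => Option.some_ne_none r (congrArg ULift.down h)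
      · rw [SetLike.mem_coe, Pi.basisFun_apply]
        exact hsome j
    · obtain ⟨_ | j⟩ := r
      · exact h0
      · exact h1 _
    · rw [Finset.card_image_of_injective _ fun p q h => congrArg ULift.down h, Finset.card_erase_of_mem (Finset.mem_univ a),
        Finset.card_univ, Fintype.card_fin, Fintype.card_ulift, Fintype.card_option, Fintype.card_subtype_compl,
        Fintype.card_subtype_eq, Fintype.card_fin]
      omega
    · by_cases h : i = a
      · subst h; rw [hva]; exact F.one_mem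
      · exact hF _ (Finset.mem_image.mpr ⟨i, Finset.mem_erase.mpr ⟨h, Finset.mem_univ _⟩, rfl⟩)

end Groth.Agent.ForSys
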