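import Groth.Agent.DimTrdeg.Basic

/-!
# Dimension of affine algebras: field extension, chains, integral maps
-/

set_option autoImplicit false

universe u

namespace Groth.Agent.ForSys

open MvPolynomial

theorem ringKrullDim_le_of_isIntegral {A B : Type*} [CommRing A] [CommRing B] [Algebra A B] [Algebra.IsIntegral A B] :
    ringKrullDim B ≤ ringKrullDim A :=
  Order.krullDim_le_of_strictMono (PrimeSpectrum.comap (algebraMap A B)) fun P Q h =>
    Ideal.IsIntegral.comap_lt_comap (R := A) (show P.asIdeal < Q.asIdeal from h)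

theorem exists_prime_dim_ge {R : Type*} [CommRing R] (I : Ideal R) (r : ℕ)
    (h : (r : WithBot ℕ∞) ≤ ringKrullDim (R ⧸ I)) :
    ∃ P : Ideal R, P.IsPrime ∧ I ≤ P ∧ (r : WithBot ℕ∞) ≤ ringKrullDim (R ⧸ P) := by
  rw [ringKrullDim_quotient, Order.le_krullDim_iff] at h
  obtain ⟨l, hl⟩ := h
  refine ⟨l.head.1.asIdeal, l.head.1.isPrime, (PrimeSpectrum.mem_zeroLocus _ _).1 l.head.2, ?_⟩
  rw [ringKrullDim_quotient, Order.le_krullDim_iff]
  refine ⟨⟨l.length, fun i => ⟨(l i).1, (PrimeSpectrum.mem_zeroLocus _ _).2 ?_⟩, fun i => ?_⟩, hl⟩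
  · exact (l.monotone (Fin.zero_le i) : l 0 ≤ l i)
  · exact l.step i

section cmap
variable {σ F L : Type*} [Field F] [Field L] [Algebra F L]

/-- Apply an `F`-linear functional to all coefficients. -/
noncomputable def cmap (π : L →ₗ[F] F) (p : MvPolynomial σ L) : MvPolynomial σ F :=
  ∑ d ∈ p.support, monomial d (π (p.coeff d))

theorem coeff_cmap (π : L →ₗ[F] F) (p : MvPolynomial σ L) (d : σ →₀ ℕ) :
    (cmap π p).coeff d = π (p.coeff d) := by
  classical
  rw [cmap, coeff_sum]
  simp only [coeff_monomial, Finset.sum_ite_eq', mem_support_iff]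
  by_cases h : p.coeff d = 0
  · simp [h]
  · rw [if_pos h]

theorem cmap_add (π : L →ₗ[F] F) (p q : MvPolynomial σ L) : cmap π (p + q) = cmap π p + cmap π q := by
  ext d; simp [coeff_cmap]

theorem cmap_mul_map (π : L →ₗ[F] F) (p : MvPolynomial σ L) (f : MvPolynomial σ F) :
    cmap π (p * map (algebraMap F L) f) = cmap π p * f := by
  classical
  ext d
  rw [coeff_cmap, coeff_mul, coeff_mul, map_sum]
  refine Finset.sum_congr rfl fun x _ => ?_
  rw [coeff_map, coeff_cmap, mul_comm, ← Algebra.smul_def, map_smul, smul_eq_mul, mul_comm]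

theorem cmap_mem (π : L →ₗ[F] F) {I : Ideal (MvPolynomial σ F)} {p : MvPolynomial σ L}
    (hp : p ∈ I.map (map (algebraMap F L))) : cmap π p ∈ I := by
  refine Submodule.span_induction (p := fun p _ => ∀ a, cmap π (a * p) ∈ I) ?_ ?_ ?_ ?_ hp 1 |> fun h => by
    rwa [one_mul] at h
  · rintro _ ⟨f, hf, rfl⟩ a
    rw [cmap_mul_map]
    exact I.mul_mem_left _ hf
  · intro a
    simp [cmap]
  · intro x y _ _ hx hy a
    rw [mul_add, cmap_add]
    exact I.add_mem (hx a) (hy a)
  · intro c x _ hx a
    rw [smul_eq_mul, ← mul_assoc]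
    exact hx _

theorem cmap_aeval {τ : Type*} (π : L →ₗ[F] F) (h : τ → MvPolynomial σ F) (Q : MvPolynomial τ L) :
    cmap π (aeval (fun i => map (algebraMap F L) (h i)) Q) = aeval h (cmap π Q) := by
  induction Q using MvPolynomial.induction_on' with
  | monomial d c =>
    have h1 : (cmap π (monomial d c) : MvPolynomial τ F) = monomial d (π c) := by
      classical
      ext e
      rw [coeff_cmap, coeff_monomial, coeff_monomial]
      split_ifs <;> simp
    rw [h1, aeval_monomial, aeval_monomial]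
    have h2 : (d.prod fun i k => map (algebraMap F L) (h i) ^ k) = map (algebraMap F L) (d.prod fun i k => h i ^ k) := by
      simp [map_finsuppProd]
    rw [h2, cmap_mul_map]
    congr 1
    classical
    ext e
    rw [coeff_cmap, MvPolynomial.algebraMap_eq, coeff_C, MvPolynomial.algebraMap_eq, coeff_C]
    split_ifs <;> simp
  | add p q hp hq => rw [map_add, cmap_add, cmap_add, map_add, hp, hq]

end cmap

/-- Extending the base field does not decrease the dimension. -/
theorem ringKrullDim_le_map {F L : Type u} [Field F] [Field L] [Algebra F L] (n : ℕ)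
    (I : Ideal (MvPolynomial (Fin n) F)) (hI : I ≠ ⊤) :
    ringKrullDim (MvPolynomial (Fin n) F ⧸ I) ≤
      ringKrullDim (MvPolynomial (Fin n) L ⧸ I.map (map (algebraMap F L))) := by
  haveI : Nontrivial (MvPolynomial (Fin n) F ⧸ I) := Ideal.Quotient.nontrivial_iff.mpr hI
  obtain ⟨s, g, hg, hint⟩ := exists_integral_inj_algHom_of_fg F (MvPolynomial (Fin n) F ⧸ I)
  choose h hh using fun i => Ideal.Quotient.mk_surjective (g (X i))
  let J := I.map (map (algebraMap F L))
  let gL : MvPolynomial (Fin s) L →ₐ[L] MvPolynomial (Fin n) L ⧸ J :=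
    aeval fun i => Ideal.Quotient.mk J (map (algebraMap F L) (h i))
  have hgL : ∀ Q, gL Q = Ideal.Quotient.mk J (aeval (fun i => map (algebraMap F L) (h i)) Q) := fun Q =>
    (DFunLike.congr_fun (MvPolynomial.comp_aeval (fun i => map (algebraMap F L) (h i)) (Ideal.Quotient.mkₐ L J)) Q).symm
  have hgF : ∀ Q : MvPolynomial (Fin s) F, g Q = Ideal.Quotient.mk I (aeval h Q) := fun Q =>
    DFunLike.congr_fun (MvPolynomial.algHom_ext fun i => by simp [hh] :
      g = (Ideal.Quotient.mkₐ F I).comp (aeval h)) Q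
  have hinj : Function.Injective gL := by
    rw [injective_iff_map_eq_zero]
    intro Q hQ
    rw [hgL, Ideal.Quotient.eq_zero_iff_mem] at hQ
    ext d
    rw [coeff_zero, ← Module.forall_dual_apply_eq_zero_iff F]
    intro π
    have h0 := cmap_mem π hQ
    rw [cmap_aeval, ← Ideal.Quotient.eq_zero_iff_mem, ← hgF, ← map_zero g] at h0
    have h1 := congrArg (fun q => coeff d q) (hg h0)
    simpa [coeff_cmap] using h1
  let toJ : MvPolynomial (Fin n) F ⧸ I →+* MvPolynomial (Fin n) L ⧸ J :=
    Ideal.quotientMap J (map (algebraMap F L)) Ideal.le_comap_map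
  letI := gL.toRingHom.toAlgebra
  have hsq : toJ.comp g.toRingHom = gL.toRingHom.comp (map (algebraMap F L)) := by
    refine MvPolynomial.ringHom_ext (fun r => ?_) fun i => ?_
    · show toJ (g (C r)) = gL (map (algebraMap F L) (C r))
      rw [map_C, hgF, aeval_C, hgL, aeval_C]
      show Ideal.Quotient.mk J (map (algebraMap F L) (C r)) = _
      rw [map_C]
      rfl
    · show toJ (g (X i)) = gL (map (algebraMap F L) (X i))
      rw [map_X, hgF, hgL, aeval_X, aeval_X]
      rfl
  haveI : Algebra.IsIntegral (MvPolynomial (Fin s) L) (MvPolynomial (Fin n) L ⧸ J) := by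
    have hX : ∀ i, IsIntegral (MvPolynomial (Fin s) L) (Ideal.Quotient.mk J (X i)) := fun i => by
      obtain ⟨q, hqm, hq⟩ := hint (Ideal.Quotient.mk I (X i))
      refine ⟨q.map (map (algebraMap F L)), hqm.map _, ?_⟩
      have h1 := congrArg toJ hq
      rw [Polynomial.hom_eval₂, map_zero, hsq] at h1
      rw [Polynomial.eval₂_map]
      have h2 : toJ (Ideal.Quotient.mk I (X i)) = Ideal.Quotient.mk J (X i) := by
        show Ideal.Quotient.mk J (map (algebraMap F L) (X i)) = _
        rw [map_X]
      rw [← h2]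
      exact h1
    refine ⟨fun x => ?_⟩
    obtain ⟨q, rfl⟩ := Ideal.Quotient.mk_surjective x
    induction q using MvPolynomial.induction_on with
    | C a =>
      have : (Ideal.Quotient.mk J (C a)) = algebraMap (MvPolynomial (Fin s) L) (MvPolynomial (Fin n) L ⧸ J) (C a) := by
        show _ = gL (C a)
        rw [hgL, aeval_C]; rfl
      rw [this]; exact isIntegral_algebraMap
    | add p q hp hq => rw [map_add]; exact hp.add hq
    | mul_X p i hp => rw [map_mul]; exact hp.mul (hX i)
  rw [DimTrdeg.ringKrullDim_eq_of_isIntegral (MvPolynomial (Fin s) L) (MvPolynomial (Fin n) L ⧸ J) hinj,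
    MvPolynomial.ringKrullDim_of_isNoetherianRing, ringKrullDim_eq_zero_of_field]
  letI := g.toRingHom.toAlgebra
  haveI : Algebra.IsIntegral (MvPolynomial (Fin s) F) (MvPolynomial (Fin n) F ⧸ I) := ⟨hint⟩
  rw [DimTrdeg.ringKrullDim_eq_of_isIntegral (MvPolynomial (Fin s) F) (MvPolynomial (Fin n) F ⧸ I) hg,
    MvPolynomial.ringKrullDim_of_isNoetherianRing, ringKrullDim_eq_zero_of_field]

end Groth.Agent.ForSys
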