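import Groth.Agent.ForSys.Dim

/-!
# Coefficients of a dependent system of forms are algebraically dependent
-/

set_option autoImplicit false

universe u

namespace Groth.Agent.ForSys

open MvPolynomial

/-- Coefficients of a relation with algebraically independent monomials lie in the small field. -/
theorem mem_range_of_relation {F L : Type u} [Field F] [IsAlgClosed F] [Field L] [Algebra F L]
    {A : Type u} [CommRing A] [IsDomain A] [Algebra F A] {B : Type u} [CommRing B] [IsDomain B] [Algebra L B]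
    [Algebra F B] [IsScalarTower F L B] (φ : A →ₐ[F] B) (hφ : Function.Injective φ) {m : ℕ} (z : Fin m → A)
    (hz : AlgebraicIndependent L (φ ∘ z)) [halg : Algebra.IsAlgebraic (Algebra.adjoin F (Set.range z)) A]
    {ι : Type*} [Fintype ι] (E : ι → (Fin m →₀ ℕ)) (hE : Function.Injective E) (c : ι → L) (g : A)
    (hrel : φ g + aeval (φ ∘ z) (∑ i, monomial (E i) (c i)) = 0) :
    ∀ i, c i ∈ Set.range (algebraMap F L) := by
  classical
  set H : MvPolynomial (Fin m) L := ∑ i, monomial (E i) (c i) with hH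
  -- a polynomial relation for `g`
  obtain ⟨Q₀, hQ₀, hQ₀g⟩ := halg.isAlgebraic g
  let ρ : MvPolynomial (Fin m) F →ₐ[F] Algebra.adjoin F (Set.range z) :=
    aeval fun i => (⟨z i, Algebra.subset_adjoin ⟨i, rfl⟩⟩ : Algebra.adjoin F (Set.range z))
  have hρ : ∀ q, ((ρ q : Algebra.adjoin F (Set.range z)) : A) = aeval z q := fun q => by
    rw [← Subalgebra.coe_val, ← AlgHom.comp_apply, MvPolynomial.comp_aeval]
    rfl
  have hρs : Function.Surjective ρ.toRingHom := fun x => by
    have hx : (x : A) ∈ (aeval z : MvPolynomial (Fin m) F →ₐ[F] A).range := by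
      rw [← Algebra.adjoin_range_eq_range_aeval]; exact x.2
    obtain ⟨q, hq⟩ := hx
    exact ⟨q, Subtype.ext ((hρ q).trans hq)⟩
  obtain ⟨Q, hQ⟩ := Polynomial.map_surjective ρ.toRingHom hρs Q₀
  have hQ0 : Q ≠ 0 := fun h => hQ₀ (by rw [← hQ, h, Polynomial.map_zero])
  -- push to `L[y]`
  let j : MvPolynomial (Fin m) F →+* MvPolynomial (Fin m) L := map (algebraMap F L)
  have hj : ∀ q, aeval (φ ∘ z) (j q) = φ (aeval z q) := fun q => by
    show aeval (φ ∘ z) (map (algebraMap F L) q) = _
    rw [aeval_map_algebraMap, ← AlgHom.comp_apply, MvPolynomial.comp_aeval]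
    rfl
  have hQH : Q.eval₂ j (-H) = 0 := by
    refine hz ?_
    rw [map_zero, ← AlgHom.coe_toRingHom, Polynomial.hom_eval₂]
    have h1 := congrArg φ.toRingHom hQ₀g
    rw [map_zero, Polynomial.aeval_def, Polynomial.hom_eval₂, ← hQ, Polynomial.eval₂_map] at h1
    rw [← h1]
    refine congrArg₂ (fun f t => Polynomial.eval₂ f t Q) (RingHom.ext fun q => ?_) ?_
    · show aeval (φ ∘ z) (j q) = φ ((ρ q : Algebra.adjoin F (Set.range z)) : A)
      rw [hj, hρ]
    · show aeval (φ ∘ z) (-H) = φ g
      rw [map_neg]; exact neg_eq_of_add_eq_zero_left hrel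
  -- specialise at points of the small field
  have hval : ∀ a : Fin m → F, eval a Q.leadingCoeff ≠ 0 →
      eval (fun i => algebraMap F L (a i)) H ∈ Set.range (algebraMap F L) := by
    intro a ha
    let Qa := Q.map (eval a)
    have hQa : Qa ≠ 0 := fun h => ha (by
      have := congrArg (fun f => f.coeff Q.natDegree) h
      rw [Polynomial.coeff_map, Polynomial.coeff_zero] at this
      exact this)
    have h1 := congrArg (eval fun i => algebraMap F L (a i)) hQH
    rw [map_zero, Polynomial.hom_eval₂, map_neg] at h1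
    have h2 : Qa.eval₂ (algebraMap F L) (-(eval (fun i => algebraMap F L (a i)) H)) = 0 := by
      rw [Polynomial.eval₂_map, ← h1]
      refine congrArg (fun f => Polynomial.eval₂ f _ Q) (RingHom.ext fun q => ?_)
      show algebraMap F L (eval a q) = eval (fun i => algebraMap F L (a i)) (map (algebraMap F L) q)
      rw [eval_map]; exact (eval₂_comp (algebraMap F L) a q).trans rfl
    have halg : IsAlgebraic F (-(eval (fun i => algebraMap F L (a i)) H)) := ⟨Qa, hQa, h2⟩
    obtain ⟨r, hr⟩ := minpoly.mem_range_of_degree_eq_one F _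
      (IsAlgClosed.degree_eq_one_of_irreducible F (minpoly.irreducible halg.isIntegral))
    exact ⟨-r, by rw [map_neg, hr, neg_neg]⟩
  intro i
  -- linear functionals killing `F`
  let W : Submodule F L := Submodule.span F {1}
  suffices hci : c i ∈ W by
    obtain ⟨r, hr⟩ := Submodule.mem_span_singleton.mp hci
    exact ⟨r, by rw [← hr, Algebra.smul_def, mul_one]⟩
  rw [← Subspace.forall_mem_dualAnnihilator_apply_eq_zero_iff]
  intro ψ hψ
  have hψ1 : ψ 1 = 0 := (Submodule.mem_dualAnnihilator ψ).mp hψ 1 (Submodule.mem_span_singleton_self 1)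
  let Hψ : MvPolynomial (Fin m) F := ∑ i, monomial (E i) (ψ (c i))
  have hzero : Hψ * Q.leadingCoeff = 0 := by
    refine MvPolynomial.funext fun a => ?_
    rw [map_mul, map_zero]
    by_cases ha : eval a Q.leadingCoeff = 0
    · rw [ha, mul_zero]
    · obtain ⟨r, hr⟩ := hval a ha
      have h1 := congrArg ψ hr
      rw [Algebra.algebraMap_eq_smul_one, map_smul, hψ1, smul_zero] at h1
      refine mul_eq_zero_of_left ?_ _
      rw [h1, hH]
      simp only [Hψ, map_sum, eval_monomial]
      refine Finset.sum_congr rfl fun i _ => ?_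
      have h2 : (E i).prod (fun k e => algebraMap F L (a k) ^ e) = algebraMap F L ((E i).prod fun k e => a k ^ e) := by
        simp [map_finsuppProd]
      rw [h2, mul_comm (c i), ← Algebra.smul_def, map_smul, smul_eq_mul, mul_comm]
  have h3 := (mul_eq_zero.mp hzero).resolve_right (Polynomial.leadingCoeff_ne_zero.mpr hQ0)
  have h4 := congrArg (coeff (E i)) h3
  simpa [Hψ, coeff_sum, coeff_monomial, hE.eq_iff] using h4

theorem isAlgebraic_adjoin_range {F A : Type u} [Field F] [CommRing A] [IsDomain A] [Algebra F A] {m : ℕ}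
    (z : Fin m → A) (hz : AlgebraicIndependent F z) (h : Algebra.trdeg F A ≤ (m : Cardinal)) :
    Algebra.IsAlgebraic (Algebra.adjoin F (Set.range z)) A :=
  (hz.isTranscendenceBasis_of_lift_trdeg_le_of_finite (by simpa using h)).isAlgebraic

/-- `n` monomials of degree `D` in `n + 1 - D` variables. -/
theorem exists_monomials (n D : ℕ) (hD : 1 ≤ D) (hDn : D + 1 ≤ n) :
    ∃ E : Fin n → (Fin (n + 1 - D) →₀ ℕ), Function.Injective E ∧ ∀ i, (E i).degree = D := by
  classical
  obtain ⟨m, hm⟩ : ∃ m, n + 1 - D = m + 2 := ⟨n - 1 - D, by omega⟩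
  rw [hm]
  let f : Fin (D + 1) ⊕ Fin m → (Fin (m + 2) →₀ ℕ) := fun x => match x with
    | .inl t => Finsupp.single 0 (t : ℕ) + Finsupp.single 1 (D - t)
    | .inr i => Finsupp.single 0 (D - 1) + Finsupp.single i.succ.succ 1
  have h01 : (0 : Fin (m + 2)) ≠ 1 := by simp
  have hi0 : ∀ i : Fin m, i.succ.succ ≠ (0 : Fin (m + 2)) := fun i => Fin.succ_ne_zero _
  have hi1 : ∀ i : Fin m, i.succ.succ ≠ (1 : Fin (m + 2)) := fun i => by
    rw [← Fin.succ_zero_eq_one, ne_eq, Fin.succ_inj]; exact Fin.succ_ne_zero _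
  have hf : Function.Injective f := by
    rintro (t | i) (t' | i') h
    · have := DFunLike.congr_fun h 0
      simp [f, h01, Finsupp.single_apply] at this
      exact congrArg Sum.inl (Fin.ext this)
    · have := DFunLike.congr_fun h i'.succ.succ
      simp [f, (hi0 i').symm, (hi1 i').symm, Finsupp.single_apply] at this
    · have := DFunLike.congr_fun h i.succ.succ
      simp [f, (hi0 i).symm, (hi1 i).symm, Finsupp.single_apply] at this
    · have := DFunLike.congr_fun h i.succ.succ
      simp [f, (hi0 i).symm, Finsupp.single_apply] at this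
      exact congrArg Sum.inr this.symm
  have hdeg : ∀ x, (f x).degree = D := by
    rintro (t | i) <;> simp only [f, map_add, Finsupp.degree_single]
    · have := t.2; omega
    · omega
  let e : Fin n ≃ Fin (D + 1) ⊕ Fin m := (finCongr (by omega)).trans finSumFinEquiv.symm
  exact ⟨f ∘ e, hf.comp e.injective, fun i => hdeg _⟩

set_option maxHeartbeats 1600000 in
set_option synthInstance.maxHeartbeats 400000 in
/-- If `d` forms of degrees `1, …, d` have too large a zero locus, `n` of the coefficients depend algebraically on the rest. -/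
theorem exists_algebraic_coeffs {k L : Type u} [Field k] [Field L] [IsAlgClosed L] [Algebra k L] {n d : ℕ}
    (hdn : d + 1 ≤ n) (f : Fin d → MvPolynomial (Fin n) L)
    (hf : ∀ l, (f l).IsHomogeneous ((l : ℕ) + 1))
    (hdim : ((n + 1 - d : ℕ) : WithBot ℕ∞) ≤ ringKrullDim (MvPolynomial (Fin n) L ⧸ Ideal.span (Set.range f))) :
    ∃ (l : Fin d) (E : Fin n → (Fin n →₀ ℕ)), Function.Injective E ∧ (∀ i, (E i).degree = (l : ℕ) + 1) ∧
      ∀ i, IsAlgebraic (IntermediateField.adjoin k
        {a : L | ∃ (l' : Fin d) (α : Fin n →₀ ℕ), ¬ (l' = l ∧ α ∈ Set.range E) ∧ (f l').coeff α = a}) ((f l).coeff (E i)) := by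
  classical
  let I : ℕ → Ideal (MvPolynomial (Fin n) L) := fun j => Ideal.span (f '' {l | (l : ℕ) < j})
  have hex : ∃ j, ((n + 1 - j : ℕ) : WithBot ℕ∞) ≤ ringKrullDim (MvPolynomial (Fin n) L ⧸ I j) ∧ j ≤ d := by
    refine ⟨d, ?_, le_rfl⟩
    have : I d = Ideal.span (Set.range f) := by
      simp only [I, Fin.is_lt, Set.setOf_true, Set.image_univ]
    rw [this]; exact hdim
  have hI0 : ringKrullDim (MvPolynomial (Fin n) L ⧸ I 0) = n := by
    have : I 0 = ⊥ := by simp [I]
    rw [this, ringKrullDim_eq_of_ringEquiv (RingEquiv.quotientBot _), MvPolynomial.ringKrullDim_of_isNoetherianRing,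
      ringKrullDim_eq_zero_of_field]
    simp
  have hjd := (Nat.find_spec hex).2
  have hj := (Nat.find_spec hex).1
  have hmin := fun m (hm : m < Nat.find hex) => Nat.find_min hex hm
  generalize Nat.find hex = j at hjd hj hmin
  obtain ⟨j, rfl⟩ : ∃ j', j = j' + 1 := ⟨j - 1, by
    by_contra h
    have hj0 : j = 0 := by omega
    subst hj0
    rw [hI0] at hj
    have h' : n + 1 ≤ n := by exact_mod_cast hj
    omega⟩
  have hlt : ¬ ((n + 1 - j : ℕ) : WithBot ℕ∞) ≤ ringKrullDim (MvPolynomial (Fin n) L ⧸ I j) := fun h =>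
    hmin j (Nat.lt_succ_self j) ⟨h, by omega⟩
  let lj : Fin d := ⟨j, by omega⟩
  -- a component
  obtain ⟨P, hP, hIP, hPdim⟩ := exists_prime_dim_ge _ (n - j) (by
    rwa [show n + 1 - (j + 1) = n - j by omega] at hj)
  let x : Fin n → MvPolynomial (Fin n) L ⧸ P := fun i => Ideal.Quotient.mk P (X i)
  haveI : Algebra.IsAlgebraic (Algebra.adjoin L (Set.range x)) (MvPolynomial (Fin n) L ⧸ P) := by
    refine ⟨fun a => ?_⟩
    obtain ⟨q, rfl⟩ := Ideal.Quotient.mk_surjective a
    have hq : Ideal.Quotient.mk P q ∈ Algebra.adjoin L (Set.range x) := by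
      rw [Algebra.adjoin_range_eq_range_aeval]
      exact ⟨q, (DFunLike.congr_fun (MvPolynomial.algHom_ext fun i => by simp [x] :
        aeval x = Ideal.Quotient.mkₐ L P) q)⟩
    exact isAlgebraic_algebraMap (⟨_, hq⟩ : Algebra.adjoin L (Set.range x))
  haveI : FaithfulSMul L (MvPolynomial (Fin n) L ⧸ P) := (faithfulSMul_iff_algebraMap_injective _ _).mpr (RingHom.injective _)
  obtain ⟨t, hts, ht⟩ := exists_isTranscendenceBasis_subset (R := L) (Set.range x)
  obtain ⟨s, hs, hsdim⟩ := DimTrdeg.exists_trdeg_eq_ringKrullDim L (MvPolynomial (Fin n) L ⧸ P)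
  rw [hsdim] at hPdim
  have hms : n - j ≤ s := by exact_mod_cast hPdim
  have htfin : t.Finite := (Set.finite_range x).subset hts
  have htcard : t.ncard = s := by
    have := ht.cardinalMk_eq_trdeg
    rw [hs] at this
    rw [Set.ncard_def, Set.encard, ENat.card, this]
    simp
  obtain ⟨t', ht', ht'card⟩ := Set.exists_subset_card_eq (htcard.symm ▸ hms : n - j ≤ t.ncard)
  haveI : Finite t' := (htfin.subset ht').to_subtype
  let et : Fin (n - j) ≃ t' := (Finite.equivFinOfCardEq (by rw [Nat.card_coe_set_eq, ht'card])).symm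
  choose S hS using fun i : Fin (n - j) => hts (ht' (et i).2)
  have hSinj : Function.Injective S := fun a b hab => et.injective (Subtype.ext (by rw [← hS a, ← hS b, hab]))
  have hxS : AlgebraicIndependent L (x ∘ S) := by
    have h2 : x ∘ S = Subtype.val ∘ Set.inclusion ht' ∘ et := funext fun i => hS i
    rw [h2, ← Function.comp_assoc]
    exact ((ht.1.comp _ (Set.inclusion_injective ht')).comp _ et.injective)
  -- the monomials
  obtain ⟨E₀, hE₀, hE₀d⟩ := exists_monomials n (j + 1) (by omega) (by omega)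
  have hm : n + 1 - (j + 1) = n - j := by omega
  let E : Fin n → (Fin n →₀ ℕ) := fun i => (E₀ i).mapDomain fun a => S (Fin.cast hm a)
  have hScast : Function.Injective fun a => S (Fin.cast hm a) := hSinj.comp (Fin.cast_injective hm)
  have hEinj : Function.Injective E := (Finsupp.mapDomain_injective hScast).comp hE₀
  have hEdeg : ∀ i, (E i).degree = j + 1 := fun i => by
    rw [← hE₀d i]
    simp only [E, Finsupp.degree_apply]
    rw [Finsupp.mapDomain_support_of_injective hScast, Finset.sum_image hScast.injOn]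
    exact Finset.sum_congr rfl fun a _ => Finsupp.mapDomain_apply hScast _ _
  refine ⟨lj, E, hEinj, hEdeg, ?_⟩
  -- the small field
  set K := IntermediateField.adjoin k
    {a : L | ∃ (l' : Fin d) (α : Fin n →₀ ℕ), ¬ (l' = lj ∧ α ∈ Set.range E) ∧ (f l').coeff α = a}
  let F := algebraicClosure K L
  haveI : IsAlgClosed F := (algebraicClosure.isAlgClosure K L).isAlgClosed
  have hcoef : ∀ (l' : Fin d) (α : Fin n →₀ ℕ), ¬ (l' = lj ∧ α ∈ Set.range E) →
      ∃ r : F, algebraMap F L r = (f l').coeff α := fun l' α h =>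
    ⟨⟨(f l').coeff α, mem_algebraicClosure_iff.mpr (isAlgebraic_algebraMap (⟨_, IntermediateField.subset_adjoin _ _ ⟨l', α, h, rfl⟩⟩ : K))⟩, rfl⟩
  -- forms over the small field
  have hlift : ∀ q : MvPolynomial (Fin n) L, (∀ α, ∃ r : F, algebraMap F L r = q.coeff α) →
      ∃ q₀ : MvPolynomial (Fin n) F, map (algebraMap F L) q₀ = q := fun q h => by
    choose r hr using h
    exact ⟨∑ α ∈ q.support, monomial α (r α), by
      simp only [map_sum, map_monomial, hr, support_sum_monomial_coeff]⟩
  choose f₀ hf₀ using fun l : {l : Fin d // (l : ℕ) < j} => hlift (f l.1) fun α => hcoef l.1 α (fun h => by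
    have : (l.1 : ℕ) = j := congrArg Fin.val h.1
    have := l.2
    omega)
  let P₀ : Ideal (MvPolynomial (Fin n) F) := P.comap (map (algebraMap F L))
  haveI : P₀.IsPrime := Ideal.IsPrime.comap _
  let J₀ : Ideal (MvPolynomial (Fin n) F) := Ideal.span (Set.range f₀)
  have hJI : J₀.map (map (algebraMap F L)) = I j := by
    rw [Ideal.map_span, ← Set.range_comp]
    refine congrArg _ (Set.ext fun a => ?_)
    simp only [Set.mem_range, Function.comp_apply, hf₀, Set.mem_image, Set.mem_setOf_eq]
    exact ⟨fun ⟨l, h⟩ => ⟨l.1, l.2, h⟩, fun ⟨l, hl, h⟩ => ⟨⟨l, hl⟩, h⟩⟩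
  have hI1 : I j ≤ I (j + 1) := Ideal.span_mono (Set.image_mono fun l hl => Nat.lt_succ_of_lt hl)
  have hJP : J₀ ≤ P₀ := by
    rw [← Ideal.map_le_iff_le_comap, hJI]
    exact hI1.trans hIP
  obtain ⟨s₀, hs₀, hs₀dim⟩ := DimTrdeg.exists_trdeg_eq_ringKrullDim F (MvPolynomial (Fin n) F ⧸ P₀)
  have hs₀le : s₀ ≤ n - j := by
    have h1 : ringKrullDim (MvPolynomial (Fin n) F ⧸ P₀) ≤ ringKrullDim (MvPolynomial (Fin n) F ⧸ J₀) :=
      ringKrullDim_le_of_surjective (Ideal.Quotient.factor hJP) (Ideal.Quotient.factor_surjective hJP)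
    have h2 := h1.trans (ringKrullDim_le_map (L := L) n J₀ (ne_top_of_le_ne_top Ideal.IsPrime.ne_top' hJP))
    rw [hs₀dim, hJI] at h2
    by_contra hcon
    exact hlt (le_trans (by exact_mod_cast (by omega : n + 1 - j ≤ s₀)) h2)
  let φ : MvPolynomial (Fin n) F ⧸ P₀ →ₐ[F] MvPolynomial (Fin n) L ⧸ P :=
    Ideal.quotientMapₐ P (MvPolynomial.mapAlgHom (IsScalarTower.toAlgHom F F L)) le_rfl
  have hφ : Function.Injective φ := Ideal.quotientMap_injective
  have hφmk : ∀ q, φ (Ideal.Quotient.mk P₀ q) = Ideal.Quotient.mk P (map (algebraMap F L) q) := fun q => rfl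
  let z : Fin (n - j) → MvPolynomial (Fin n) F ⧸ P₀ := fun i => Ideal.Quotient.mk P₀ (X (S i))
  have hz : φ ∘ z = x ∘ S := funext fun i => by simp only [Function.comp_apply, z, hφmk, map_X]; rfl
  have hzF : AlgebraicIndependent F z :=
    AlgebraicIndependent.of_comp φ (hz ▸ hxS.restrictScalars (RingHom.injective (algebraMap F L)))
  have halg₀ := isAlgebraic_adjoin_range z hzF (by rw [hs₀]; exact_mod_cast hs₀le)
  -- the relation
  let R₀ := f lj - ∑ i, monomial (E i) ((f lj).coeff (E i))
  obtain ⟨g₀, hg₀⟩ := hlift R₀ fun α => by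
    by_cases hα : α ∈ Set.range E
    · obtain ⟨i, rfl⟩ := hα
      exact ⟨0, by simp [R₀, coeff_sum, coeff_monomial, hEinj.eq_iff]⟩
    · obtain ⟨r, hr⟩ := hcoef lj α (fun h => hα h.2)
      refine ⟨r, ?_⟩
      rw [hr, coeff_sub, coeff_sum, Finset.sum_eq_zero fun i _ => ?_, sub_zero]
      rw [coeff_monomial, if_neg fun h => hα ⟨i, h⟩]
  have hrel : φ (Ideal.Quotient.mk P₀ g₀) +
      aeval (φ ∘ z) (∑ i, monomial ((E₀ i).mapDomain (Fin.cast hm)) ((f lj).coeff (E i))) = 0 := by
    rw [hφmk, hg₀, hz]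
    have h2 : aeval (x ∘ S) (∑ i, monomial ((E₀ i).mapDomain (Fin.cast hm)) ((f lj).coeff (E i))) =
        Ideal.Quotient.mk P (∑ i, monomial (E i) ((f lj).coeff (E i))) := by
      rw [← MvPolynomial.aeval_rename]
      simp only [map_sum, rename_monomial, ← Finsupp.mapDomain_comp]
      exact Finset.sum_congr rfl fun i _ => DFunLike.congr_fun (MvPolynomial.algHom_ext fun i => by simp [x] :
        aeval x = Ideal.Quotient.mkₐ L P) _
    rw [h2, ← map_add, sub_add_cancel, Ideal.Quotient.eq_zero_iff_mem]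
    exact hIP (Ideal.subset_span ⟨lj, Nat.lt_succ_self j, rfl⟩)
  intro i
  obtain ⟨r, hr⟩ := mem_range_of_relation (halg := halg₀) φ hφ z (hz ▸ hxS) (fun i => (E₀ i).mapDomain (Fin.cast hm))
    ((Finsupp.mapDomain_injective (Fin.cast_injective hm)).comp hE₀) (fun i => (f lj).coeff (E i)) _ hrel i
  rw [← hr]
  exact mem_algebraicClosure_iff.mp r.2

end Groth.Agent.ForSys
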