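import Groth.Agent.ForSys.Dim

/-!
# Linear sections of a cone, and spreading out the bound on its dimension
-/

set_option autoImplicit false

universe u v w

namespace Groth.Agent.ForSys

open MvPolynomial

/-- The linear form with coefficients `c`. -/
noncomputable def linForm {R : Type*} [CommRing R] {n : ℕ} (c : Fin n → R) : MvPolynomial (Fin n) R :=
  ∑ i, C (c i) * X i

theorem isHomogeneous_linForm {R : Type*} [CommRing R] {n : ℕ} (c : Fin n → R) : (linForm c).IsHomogeneous 1 :=
  IsHomogeneous.sum _ _ _ fun i _ => by simpa using (isHomogeneous_C _ (c i)).mul (isHomogeneous_X R i)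

theorem map_linForm {R S : Type*} [CommRing R] [CommRing S] (f : R →+* S) {n : ℕ} (c : Fin n → R) :
    map f (linForm c) = linForm fun i => f (c i) := by
  simp [linForm]

/-- A cone of dimension `≤ r` meets `r` general `k`-linear hyperplanes only in the origin. -/
theorem exists_linForms {k L : Type u} [Field k] [Infinite k] [Field L] [IsAlgClosed L] [Algebra k L] (n r : ℕ) :
    ∀ (S : Set (MvPolynomial (Fin n) L)), (∀ f ∈ S, ∃ D, 1 ≤ D ∧ f.IsHomogeneous D) →
    ringKrullDim (MvPolynomial (Fin n) L ⧸ Ideal.span S) ≤ (r : WithBot ℕ∞) →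
    ∃ (c : Fin r → Fin n → k) (M : ℕ), ∀ α : Fin n →₀ ℕ, α.degree = M →
      monomial α (1 : L) ∈ Ideal.span (S ∪ Set.range fun j => linForm fun i => algebraMap k L (c j i)) := by
  classical
  induction r with
  | zero =>
    intro S hS hdim
    have hzero : ∀ v ∈ zeroLocus L (Ideal.span S), v = 0 := by
      intro v hv
      by_contra hv0
      obtain ⟨i, hi⟩ := Function.ne_iff.mp hv0
      let g : MvPolynomial (Fin n) L →ₐ[L] Polynomial L := aeval fun i => Polynomial.C (v i) * Polynomial.X
      let m : MvPolynomial (Fin n) L →ₐ[L] L := aeval fun _ => 0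
      have hm : (Polynomial.aeval (0 : L)).comp g = m := MvPolynomial.algHom_ext fun i => by simp [g, m]
      have hlt : RingHom.ker g.toRingHom < RingHom.ker m.toRingHom := by
        refine lt_of_le_not_ge (fun q hq => ?_) fun h => ?_
        · rw [RingHom.mem_ker] at hq ⊢
          show m q = 0
          rw [← hm, AlgHom.comp_apply, show g q = 0 from hq, map_zero]
        · have h1 : g (X i) = 0 := h (show X i ∈ RingHom.ker m.toRingHom by simp [m])
          simp [g] at h1
          exact hi h1
      have hJ : Ideal.span S ≤ RingHom.ker g.toRingHom := Ideal.span_le.mpr fun f hf => by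
        obtain ⟨D, -, hD⟩ := hS f hf
        have h0 : aeval v f = 0 := hv f (Ideal.subset_span hf)
        show g f = 0
        have h1 : ∀ q : MvPolynomial (Fin n) L, q.IsHomogeneous D →
            g q = Polynomial.C (aeval v q) * Polynomial.X ^ D := by
          intro q hq
          rw [aeval_def, aeval_def, eval₂_eq, eval₂_eq, map_sum, Finset.sum_mul]
          refine Finset.sum_congr rfl fun d hd => ?_
          have hdd : ∑ j ∈ d.support, d j = D := by
            have h5 := hq (mem_support_iff.mp hd)
            rwa [Finsupp.weight_apply, Finsupp.sum, Finset.sum_congr rfl fun j _ => show d j • (1 : Fin n → ℕ) j = d j by simp] at h5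
          simp only [mul_pow, Finset.prod_mul_distrib, Finset.prod_pow_eq_pow_sum, hdd, map_mul, map_prod, map_pow,
            Polynomial.algebraMap_eq, Algebra.algebraMap_self_apply]
          ring
        rw [h1 f hD, h0, map_zero, zero_mul]
      rw [ringKrullDim_quotient] at hdim
      haveI : (RingHom.ker g.toRingHom).IsPrime := RingHom.ker_isPrime _
      haveI : (RingHom.ker m.toRingHom).IsPrime := RingHom.ker_isPrime _
      let p : LTSeries ↥(PrimeSpectrum.zeroLocus (R := MvPolynomial (Fin n) L) (Ideal.span S)) :=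
        ((RelSeries.singleton _ ⟨⟨RingHom.ker m.toRingHom, inferInstance⟩, fun q hq => (hJ.trans hlt.le) hq⟩).cons
          ⟨⟨RingHom.ker g.toRingHom, inferInstance⟩, fun q hq => hJ hq⟩
          (by rw [RelSeries.head_singleton]; exact hlt))
      have h2 := (Order.LTSeries.length_le_krullDim p).trans hdim
      have h3 : p.length = 1 := rfl
      rw [h3] at h2
      exact absurd h2 (by decide)
    have hX : idealOfVars (Fin n) L ≤ (Ideal.span S).radical := by
      rw [← vanishingIdeal_zeroLocus_eq_radical (K := L), Ideal.span_le]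
      rintro _ ⟨i, rfl⟩
      rw [SetLike.mem_coe, mem_vanishingIdeal_iff]
      intro v hv
      simp [hzero v hv]
    obtain ⟨M, hM⟩ := Ideal.exists_pow_le_of_le_radical_of_fg hX (idealOfVars_fg (Fin n) L)
    refine ⟨fun j => j.elim0, M, fun α hα => Ideal.span_mono Set.subset_union_left (hM ?_)⟩
    rw [mem_pow_idealOfVars_iff]
    intro β hβ
    rw [Finset.mem_singleton.mp (support_monomial_subset hβ), hα]
  | succ r ih =>
    intro S hS hdim
    let Φ : (Fin n → k) →ₗ[k] MvPolynomial (Fin n) L :=
      { toFun := fun c => linForm fun i => algebraMap k L (c i)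
        map_add' := fun a b => by simp [linForm, add_mul, Finset.sum_add_distrib]
        map_smul' := fun a b => by
          simp only [linForm, Pi.smul_apply, smul_eq_mul, map_mul, RingHom.id_apply, Algebra.smul_def,
            mul_assoc, Finset.mul_sum, MvPolynomial.algebraMap_apply] }
    have hΦ : ∀ i, Φ (Pi.single i 1) = X i := fun i => by
      show linForm _ = _
      rw [linForm, Finset.sum_eq_single i (fun j _ hj => by simp [hj]) (by simp)]
      simp
    haveI : Finite {P : Ideal (MvPolynomial (Fin n) L) // P ∈ (Ideal.span S).minimalPrimes ∧ ¬ idealOfVars (Fin n) L ≤ P} :=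
      (((Ideal.finite_minimalPrimes_of_isNoetherianRing _ _)).subset fun P hP => hP.1).to_subtype
    obtain ⟨c, hc⟩ := Submodule.exists_forall_notMem_of_forall_ne_top
      (fun P : {P : Ideal (MvPolynomial (Fin n) L) // P ∈ (Ideal.span S).minimalPrimes ∧ ¬ idealOfVars (Fin n) L ≤ P} =>
        (P.1.restrictScalars k).comap Φ) fun P h => P.2.2 <| Ideal.span_le.mpr <| by
          rintro _ ⟨i, rfl⟩
          have h1 : Pi.single i (1 : k) ∈ (P.1.restrictScalars k).comap Φ := by rw [h]; trivial
          rw [Submodule.mem_comap, hΦ] at h1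
          exact h1
    have hmax : (idealOfVars (Fin n) L).IsMaximal := by
      have h1 : idealOfVars (Fin n) L = RingHom.ker (constantCoeff : MvPolynomial (Fin n) L →+* L) := by
        ext q
        rw [RingHom.mem_ker, ← pow_one (idealOfVars (Fin n) L), mem_pow_idealOfVars_iff', constantCoeff_eq]
        exact ⟨fun h => h 0 (by simp), fun h x hx => by
          rw [(Finsupp.degree_eq_zero_iff x).mp (by omega)]; exact h⟩
      rw [h1]
      exact RingHom.ker_isMaximal_of_surjective _ fun a => ⟨C a, constantCoeff_C _ a⟩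
    have hdim' : ringKrullDim (MvPolynomial (Fin n) L ⧸ Ideal.span (insert (Φ c) S)) ≤ (r : WithBot ℕ∞) := by
      rw [ringKrullDim_quotient] at hdim ⊢
      refine iSup_le fun l => ?_
      have hl : ∀ a ∈ Ideal.span (insert (Φ c) S), a ∈ l.head.1.asIdeal := fun a ha =>
        (PrimeSpectrum.mem_zeroLocus _ _).1 l.head.2 ha
      obtain ⟨P, hP, hPle⟩ := Ideal.exists_minimalPrimes_le
        (show Ideal.span S ≤ l.head.1.asIdeal from fun a ha => hl a (Ideal.span_mono (Set.subset_insert _ _) ha))
      haveI := hP.1.1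
      by_cases hPv : idealOfVars (Fin n) L ≤ P
      · have hl0 : l.length = 0 := by
          by_contra h0
          have h1 : idealOfVars (Fin n) L ≤ l.head.1.asIdeal := hPv.trans hPle
          have h2 : l.head.1.asIdeal < (l ⟨1, by omega⟩).1.asIdeal :=
            l.strictMono (show (0 : Fin (l.length + 1)) < ⟨1, by omega⟩ from Fin.mk_lt_mk.mpr one_pos)
          exact (l ⟨1, by omega⟩).1.isPrime.ne_top (hmax.out.2 _ (lt_of_le_of_lt h1 h2))
        rw [hl0]
        exact_mod_cast (Nat.zero_le r : 0 ≤ r)
      · have hne : (⟨P, hP.1.1⟩ : PrimeSpectrum _) < l.head.1 := lt_of_le_of_ne hPle fun e => hc ⟨P, hP, hPv⟩ (by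
          show Φ c ∈ P
          have := hl _ (Ideal.subset_span (Set.mem_insert _ _))
          rwa [← e] at this)
        let l' : LTSeries ↥(PrimeSpectrum.zeroLocus (R := MvPolynomial (Fin n) L) (Ideal.span S)) :=
          l.map (fun p => ⟨p.1, (PrimeSpectrum.mem_zeroLocus _ _).2 fun a ha =>
            (PrimeSpectrum.mem_zeroLocus _ _).1 p.2 (Ideal.span_mono (Set.subset_insert _ _) ha)⟩) fun _ _ h => h
        let p : LTSeries ↥(PrimeSpectrum.zeroLocus (R := MvPolynomial (Fin n) L) (Ideal.span S)) :=
          l'.cons ⟨⟨P, hP.1.1⟩, (PrimeSpectrum.mem_zeroLocus _ _).2 fun a ha => hP.1.2 ha⟩ hne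
        have h2 := (Order.LTSeries.length_le_krullDim p).trans hdim
        have h3 : p.length = l.length + 1 := by simp [p, l']
        rw [h3] at h2
        have h4 : l.length + 1 ≤ r + 1 := by exact_mod_cast h2
        exact_mod_cast (by omega : l.length ≤ r)
    obtain ⟨cs, M, hcs⟩ := ih _ (fun f hf => by
      obtain rfl | hf := hf
      · exact ⟨1, le_rfl, isHomogeneous_linForm _⟩
      · exact hS f hf) hdim'
    refine ⟨Fin.cons c cs, M, fun α hα => Ideal.span_mono ?_ (hcs α hα)⟩
    rintro f ((rfl | hf) | ⟨j, rfl⟩)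
    · exact Or.inr ⟨0, rfl⟩
    · exact Or.inl hf
    · exact Or.inr ⟨j.succ, rfl⟩

/-- The products `monomial * generator` of degree `M`. -/
def prods {R : Type*} [CommRing R] {n : ℕ} (S : Set (MvPolynomial (Fin n) R)) (M : ℕ) : Set (MvPolynomial (Fin n) R) :=
  {p | ∃ (β : Fin n →₀ ℕ), ∃ g ∈ S, p = monomial β 1 * g ∧ p.IsHomogeneous M}

theorem mem_span_prods {R : Type*} [CommRing R] {n : ℕ} {S : Set (MvPolynomial (Fin n) R)}
    (hS : ∀ g ∈ S, ∃ D, g.IsHomogeneous D) {M : ℕ} {f : MvPolynomial (Fin n) R} (hf : f.IsHomogeneous M)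
    (hfS : f ∈ Ideal.span S) : f ∈ Submodule.span R (prods S M) := by
  classical
  suffices h : ∀ x ∈ Ideal.span S, ∀ a, homogeneousComponent M (a * x) ∈ Submodule.span R (prods S M) by
    have := h f hfS 1
    rwa [one_mul, homogeneousComponent_of_mem hf, if_pos rfl] at this
  intro x hx
  induction hx using Submodule.span_induction with
  | mem g hg =>
    intro a
    obtain ⟨D, hD⟩ := hS g hg
    induction a using MvPolynomial.induction_on' with
    | monomial β c =>
      have h1 : (monomial β (1 : R) * g).IsHomogeneous (β.degree + D) := (isHomogeneous_monomial 1 rfl).mul hD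
      rw [show monomial β c = c • monomial β (1 : R) by simp [smul_monomial], smul_mul_assoc, map_smul,
        homogeneousComponent_of_mem h1]
      refine Submodule.smul_mem _ _ ?_
      split_ifs with h
      · exact Submodule.subset_span ⟨β, g, hg, rfl, h ▸ h1⟩
      · exact Submodule.zero_mem _
    | add p q hp hq => rw [add_mul, map_add]; exact Submodule.add_mem _ hp hq
  | zero => intro a; simp
  | add x y _ _ hx hy => intro a; rw [mul_add, map_add]; exact Submodule.add_mem _ (hx a) (hy a)
  | smul c x _ hx => intro a; rw [smul_eq_mul, ← mul_assoc]; exact hx _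

theorem exists_le_degree {σ : Type*} (α : σ →₀ ℕ) : ∀ M, M ≤ α.degree → ∃ β ≤ α, β.degree = M := by
  intro M
  induction M with
  | zero => exact fun _ => ⟨0, fun _ => Nat.zero_le _, by simp⟩
  | succ M ih =>
    intro hM
    obtain ⟨β, hβ, hβd⟩ := ih (by omega)
    obtain ⟨i, hi⟩ : ∃ i, β i < α i := by
      by_contra h
      push Not at h
      have : α = β := le_antisymm h hβ
      subst this
      omega
    classical
    refine ⟨β + Finsupp.single i 1, fun j => ?_, by simp [hβd]⟩
    rw [Finsupp.add_apply, Finsupp.single_apply]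
    split_ifs with h
    · subst h; omega
    · simpa using hβ j

/-- If the degree-`M` monomials lie in `I + (y₁, …, y_r)` compatibly with degrees, then `k[x]/I` has dimension `≤ r`. -/
theorem ringKrullDim_le_of_monomials {k : Type u} [Field k] {n r : ℕ} (I : Ideal (MvPolynomial (Fin n) k))
    (y : Fin r → MvPolynomial (Fin n) k) (M : ℕ)
    (h : ∀ α : Fin n →₀ ℕ, α.degree = M → monomial α (1 : k) ∈
      Submodule.span k ((I : Set (MvPolynomial (Fin n) k)) ∪ {p | ∃ β j, β.degree < M ∧ p = monomial β 1 * y j})) :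
    ringKrullDim (MvPolynomial (Fin n) k ⧸ I) ≤ (r : WithBot ℕ∞) := by
  classical
  let g : MvPolynomial (Fin r) k →ₐ[k] MvPolynomial (Fin n) k ⧸ I := aeval fun j => Ideal.Quotient.mk I (y j)
  algebraize [g.toRingHom]
  haveI : IsScalarTower k (MvPolynomial (Fin r) k) (MvPolynomial (Fin n) k ⧸ I) :=
    IsScalarTower.of_algebraMap_eq fun c => (g.commutes c).symm
  let W : Set (MvPolynomial (Fin n) k ⧸ I) := (fun β => Ideal.Quotient.mk I (monomial β 1)) '' {β | β.degree < M}
  let N := Submodule.span (MvPolynomial (Fin r) k) W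
  have key : ∀ (D : ℕ) (α : Fin n →₀ ℕ), α.degree = D → Ideal.Quotient.mk I (monomial α 1) ∈ N := by
    intro D
    induction D using Nat.strong_induction_on with
    | _ D ih =>
      intro α hα
      by_cases hD : D < M
      · exact Submodule.subset_span ⟨α, show α.degree < M by omega, rfl⟩
      obtain ⟨β, hβ, hβd⟩ := exists_le_degree α M (by omega)
      have hdec : monomial α (1 : k) = monomial (α - β) 1 * monomial β 1 := by
        rw [monomial_mul, tsub_add_cancel_of_le hβ, mul_one]
      have hdeg : (α - β).degree + M = D := by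
        rw [← hβd, ← map_add, tsub_add_cancel_of_le hβ, hα]
      suffices hs : ∀ q ∈ Submodule.span k ((I : Set (MvPolynomial (Fin n) k)) ∪
          {p | ∃ β j, β.degree < M ∧ p = monomial β 1 * y j}),
          Ideal.Quotient.mk I (monomial (α - β) 1 * q) ∈ N by
        rw [hdec]; exact hs _ (h β hβd)
      intro q hq
      induction hq using Submodule.span_induction with
      | mem q hq =>
        rcases hq with hq | ⟨γ, j, hγ, rfl⟩
        · rw [Ideal.Quotient.eq_zero_iff_mem.mpr (I.mul_mem_left _ hq)]; exact N.zero_mem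
        · rw [← mul_assoc, monomial_mul, mul_one, map_mul, mul_comm]
          have h1 : Ideal.Quotient.mk I (y j) * Ideal.Quotient.mk I (monomial (α - β + γ) 1) =
              (X j : MvPolynomial (Fin r) k) • Ideal.Quotient.mk I (monomial (α - β + γ) 1) := by
            rw [Algebra.smul_def]
            show _ = g (X j) * _
            rw [show g (X j) = Ideal.Quotient.mk I (y j) from aeval_X _ j]
          rw [h1]
          exact N.smul_mem _ (ih _ (by rw [map_add]; omega) _ rfl)
      | zero => rw [mul_zero, map_zero]; exact N.zero_mem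
      | add a b _ _ ha hb => rw [mul_add, map_add]; exact N.add_mem ha hb
      | smul c a _ ha =>
        rw [Algebra.mul_smul_comm, ← Ideal.Quotient.mkₐ_eq_mk k, map_smul,
          ← IsScalarTower.algebraMap_smul (MvPolynomial (Fin r) k) c]
        exact N.smul_mem _ ha
  have hmem : ∀ x, x ∈ N := fun x => by
    obtain ⟨q, rfl⟩ := Ideal.Quotient.mk_surjective x
    induction q using MvPolynomial.induction_on' with
    | monomial α c =>
      rw [show monomial α c = c • monomial α (1 : k) by simp [smul_monomial], ← Ideal.Quotient.mkₐ_eq_mk k, map_smul,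
        ← IsScalarTower.algebraMap_smul (MvPolynomial (Fin r) k) c]
      exact N.smul_mem _ (key _ α rfl)
    | add p q hp hq => rw [map_add]; exact N.add_mem hp hq
  have htop : N = ⊤ := eq_top_iff.mpr fun x _ => hmem x
  have hWfin : W.Finite := ((Finsupp.finite_of_degree_le M).subset fun β (hβ : β.degree < M) => hβ.le).image _
  haveI : Module.Finite (MvPolynomial (Fin r) k) (MvPolynomial (Fin n) k ⧸ I) :=
    ⟨⟨hWfin.toFinset, by rw [Set.Finite.coe_toFinset]; exact htop⟩⟩
  haveI : Algebra.IsIntegral (MvPolynomial (Fin r) k) (MvPolynomial (Fin n) k ⧸ I) := Algebra.IsIntegral.of_finite _ _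
  refine (ringKrullDim_le_of_isIntegral (A := MvPolynomial (Fin r) k)).trans (le_of_eq ?_)
  simp [MvPolynomial.ringKrullDim_of_isNoetherianRing]

/-- A bound on the dimension of the generic member of a family of cones holds at some point of a dense set. -/
theorem exists_point_dim_le {k L R : Type u} [Field k] [Infinite k] [Field L] [IsAlgClosed L] [Algebra k L]
    [CommRing R] [Algebra k R] (ψ : R →ₐ[k] L) (P : Set (R →ₐ[k] k))
    (hP : ∀ a : R, ψ a ≠ 0 → ∃ e ∈ P, e a ≠ 0) {n r : ℕ} {ι : Type*} (G : ι → MvPolynomial (Fin n) R)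
    (deg : ι → ℕ) (hdeg : ∀ i, 1 ≤ deg i) (hG : ∀ i, (G i).IsHomogeneous (deg i))
    (hdim : ringKrullDim (MvPolynomial (Fin n) L ⧸ Ideal.span (Set.range fun i => map ψ.toRingHom (G i))) ≤
      (r : WithBot ℕ∞)) :
    ∃ e ∈ P, ringKrullDim (MvPolynomial (Fin n) k ⧸ Ideal.span (Set.range fun i => map e.toRingHom (G i))) ≤
      (r : WithBot ℕ∞) := by
  classical
  obtain ⟨c, M, hc⟩ := exists_linForms (k := k) n r (Set.range fun i => map ψ.toRingHom (G i))
    (by rintro _ ⟨i, rfl⟩; exact ⟨deg i, hdeg i, (hG i).map _⟩) hdim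
  let H : ι ⊕ Fin r → MvPolynomial (Fin n) R := Sum.elim G fun j => linForm fun i => algebraMap k R (c j i)
  have hψH : Set.range (fun x => map ψ.toRingHom (H x)) =
      (Set.range fun i => map ψ.toRingHom (G i)) ∪ Set.range fun j => linForm fun i => algebraMap k L (c j i) := by
    have hcomm : ∀ a, ψ.toRingHom (algebraMap k R a) = algebraMap k L a := ψ.commutes
    rw [show (fun x => map ψ.toRingHom (H x)) = Sum.elim (fun i => map ψ.toRingHom (G i))
      fun j => linForm fun i => algebraMap k L (c j i) from ?_, Set.Sum.elim_range]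
    funext x
    rcases x with i | j
    · rfl
    · simp [H, map_linForm]
  let dH : ι ⊕ Fin r → ℕ := Sum.elim deg fun _ => 1
  have hH : ∀ x, (H x).IsHomogeneous (dH x) := by
    rintro (i | j)
    · exact hG i
    · exact isHomogeneous_linForm _
  let Mon := {α : Fin n →₀ ℕ // α.degree = M}
  haveI : Finite Mon := ((Finsupp.finite_of_degree_le M).subset fun α (hα : α.degree = M) => hα.le).to_subtype
  haveI : Fintype Mon := Fintype.ofFinite _
  let π : MvPolynomial (Fin n) L →ₗ[L] (Mon → L) := LinearMap.pi fun α => MvPolynomial.lcoeff L α.1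
  let Tt := {x : (ι ⊕ Fin r) × (Fin n →₀ ℕ) // x.2.degree + dH x.1 = M}
  let w : Tt → MvPolynomial (Fin n) R := fun t => monomial t.1.2 1 * H t.1.1
  have hw : ∀ t : Tt, (w t).IsHomogeneous M := fun t => by
    have h := (isHomogeneous_monomial (1 : R) (rfl : t.1.2.degree = t.1.2.degree)).mul (hH t.1.1)
    rwa [t.2] at h
  let v : Tt → (Mon → L) := fun t α => ψ ((w t).coeff α.1)
  have hspan : Submodule.span L (Set.range v) = ⊤ := by
    rw [eq_top_iff, ← (Pi.basisFun L Mon).span_eq, Submodule.span_le]
    rintro _ ⟨α, rfl⟩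
    have h1 := mem_span_prods (fun g hg => by
      obtain ⟨x, rfl⟩ := (hψH ▸ hg : g ∈ Set.range fun x => map ψ.toRingHom (H x))
      exact ⟨dH x, (hH x).map _⟩) (isHomogeneous_monomial (1 : L) α.2) (hc α.1 α.2)
    have h2 := Submodule.mem_map_of_mem (f := π) h1
    have h3 : π (monomial α.1 1) = Pi.basisFun L Mon α := by
      funext β
      show (monomial α.1 (1 : L)).coeff β.1 = _
      rw [coeff_monomial, Pi.basisFun_apply, Pi.single_apply]
      exact if_congr ⟨fun h => (Subtype.ext h).symm, fun h => (congrArg Subtype.val h).symm⟩ rfl rfl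
    rw [h3, Submodule.map_span] at h2
    refine Submodule.span_le.mpr ?_ h2
    rintro _ ⟨p, ⟨β, g, hg, rfl, hp⟩, rfl⟩
    rw [← hψH] at hg
    obtain ⟨x, rfl⟩ := hg
    by_cases hzero : monomial β (1 : L) * map ψ.toRingHom (H x) = 0
    · rw [hzero, map_zero]; exact Submodule.zero_mem _
    have hd : β.degree + dH x = M :=
      ((isHomogeneous_monomial (1 : L) rfl).mul ((hH x).map _)).inj_right hp hzero
    refine Submodule.subset_span ⟨⟨(x, β), hd⟩, ?_⟩
    funext δ
    show ψ ((monomial β 1 * H x).coeff δ.1) = (monomial β (1 : L) * map ψ.toRingHom (H x)).coeff δ.1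
    rw [show monomial β (1 : L) = map ψ.toRingHom (monomial β 1) by simp, ← map_mul, coeff_map]
    rfl
  obtain ⟨b, hbv, hbspan, hblin⟩ := exists_linearIndependent L (Set.range v)
  rw [hspan] at hbspan
  let B := Module.Basis.mk hblin (by rw [Subtype.range_coe, hbspan])
  haveI : Finite b := Module.Finite.finite_basis B
  haveI : Fintype b := Fintype.ofFinite _
  let e : Mon ≃ b := Fintype.equivOfCardEq (by
    rw [← Module.finrank_eq_card_basis B, Module.finrank_pi])
  choose t ht using fun α : Mon => hbv (e α).2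
  let D : Matrix Mon Mon R := fun α β => (w (t α)).coeff β.1
  have hD : ψ D.det ≠ 0 := by
    rw [← AlgHom.coe_toRingHom, RingHom.map_det]
    refine ((Matrix.isUnit_iff_isUnit_det _).mp (Matrix.linearIndependent_rows_iff_isUnit.mp ?_)).ne_zero
    have h1 : (fun α => ((e α : b) : Mon → L)) = fun α β => ψ (D α β) := funext fun α => (ht α).symm
    have h2 : LinearIndependent L fun α => ((e α : b) : Mon → L) := hblin.comp e e.injective
    rw [h1] at h2
    exact h2
  obtain ⟨q, hq, hqD⟩ := hP _ hD
  refine ⟨q, hq, ringKrullDim_le_of_monomials _ (fun j => linForm fun i => c j i) M fun α hα => ?_⟩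
  have hunit : IsUnit (q.toRingHom.mapMatrix D) := by
    rw [Matrix.isUnit_iff_isUnit_det, ← RingHom.map_det]
    exact isUnit_iff_ne_zero.mpr hqD
  obtain ⟨z, hz⟩ := (Matrix.vecMul_surjective_iff_isUnit.mpr hunit) (Pi.single ⟨α, hα⟩ 1)
  have heq : monomial α (1 : k) = ∑ β, z β • map q.toRingHom (w (t β)) := by
    ext δ
    rw [coeff_sum]
    by_cases hδ : δ.degree = M
    · have h1 := congrFun hz ⟨δ, hδ⟩
      simp only [Matrix.vecMul, dotProduct, Pi.single_apply] at h1
      rw [coeff_monomial]
      simp only [coeff_smul, coeff_map, smul_eq_mul]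
      refine Eq.trans (if_congr ?_ rfl rfl) h1.symm
      exact ⟨fun h => Subtype.ext h.symm, fun h => (congrArg Subtype.val h).symm⟩
    · rw [(isHomogeneous_monomial (1 : k) hα).coeff_eq_zero hδ, Finset.sum_eq_zero]
      intro β _
      rw [coeff_smul, ((hw (t β)).map _).coeff_eq_zero hδ, smul_zero]
  rw [heq]
  refine Submodule.sum_mem _ fun β _ => Submodule.smul_mem _ _ (Submodule.subset_span ?_)
  obtain ⟨⟨⟨x | j, γ⟩, hγ⟩, hteq⟩ : ∃ s, s = t β := ⟨_, rfl⟩
  · refine Or.inl ?_
    rw [SetLike.mem_coe, ← hteq]
    show map q.toRingHom (monomial γ 1 * G x) ∈ _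
    rw [map_mul]
    exact Ideal.mul_mem_left _ _ (Ideal.subset_span ⟨x, rfl⟩)
  · refine Or.inr ⟨γ, j, ?_, ?_⟩
    · simp [dH] at hγ; omega
    · rw [← hteq]
      show map q.toRingHom (monomial γ 1 * linForm _) = _
      rw [map_mul, map_monomial, map_linForm]
      simp

end Groth.Agent.ForSys
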