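import Groth.Agent.ForSys.Coeff
import Groth.Agent.ForSys.Elim
import Groth.Agent.GeomUnib.DimFormula
import Groth.Prelude.Def_W4c2ratcurvhypCodim

/-!
# The locus of dependent systems of forms: height of its ideal
-/

set_option autoImplicit false

universe u

namespace Groth.Agent.ForSys

open MvPolynomial

theorem card_le_height_add_dim {k : Type u} [Field k] {Ω : Type*} [Fintype Ω] (q : Ideal (MvPolynomial Ω k)) [q.IsPrime] :
    (Fintype.card Ω : WithBot ℕ∞) ≤ q.height + ringKrullDim (MvPolynomial Ω k ⧸ q) := by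
  let e : MvPolynomial (Fin (Fintype.card Ω)) k ≃+* MvPolynomial Ω k :=
    (renameEquiv k (Fintype.equivFin Ω).symm).toRingEquiv
  have h := GeomUnib.le_height_add_dim k (Fintype.card Ω) (q.comap e.toRingHom)
  have hh : (q.comap e.toRingHom).height = q.height := RingEquiv.height_comap e q
  rw [hh] at h
  refine h.trans (add_le_add le_rfl (le_of_eq (ringKrullDim_eq_of_ringEquiv (Ideal.quotientEquiv _ _ e ?_))))
  exact (Ideal.map_comap_of_surjective _ e.surjective q).symm

theorem trdeg_adjoin_le {k L : Type u} [Field k] [Field L] [Algebra k L] {Ω : Type*} (x : Ω → L) (T : Set Ω)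
    (hT : T.Finite) (h : ∀ ω, IsAlgebraic (IntermediateField.adjoin k (x '' T)) (x ω)) :
    Algebra.trdeg k (Algebra.adjoin k (Set.range x)) ≤ (T.ncard : Cardinal) := by
  classical
  let A := Algebra.adjoin k (Set.range x)
  let s : Set A := (fun ω => (⟨x ω, Algebra.subset_adjoin ⟨ω, rfl⟩⟩ : A)) '' T
  have hs : A.val '' s = x '' T := by rw [← Set.image_comp]; rfl
  have hmap : (Algebra.adjoin k s).map A.val = Algebra.adjoin k (x '' T) := by rw [AlgHom.map_adjoin, hs]
  let f : Algebra.adjoin k s →+* Algebra.adjoin k (x '' T) :=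
    { toFun := fun a => ⟨a.1.1, hmap ▸ ⟨a.1, a.2, rfl⟩⟩
      map_one' := rfl
      map_mul' := fun _ _ => rfl
      map_zero' := rfl
      map_add' := fun _ _ => rfl }
  have hf : Function.Surjective f := fun b => by
    have hb : b.1 ∈ (Algebra.adjoin k s).map A.val := by rw [hmap]; exact b.2
    obtain ⟨a, ha, hab⟩ := hb
    exact ⟨⟨a, ha⟩, Subtype.ext hab⟩
  haveI halg : Algebra.IsAlgebraic (Algebra.adjoin k s) A := by
    refine ⟨fun a => IsAlgebraic.of_ringHom_of_comp_eq (S := Algebra.adjoin k (x '' T)) (B := L) f (A.val : A →+* L)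
      ?_ hf Subtype.val_injective rfl⟩
    have hle : A ≤ (Subalgebra.algebraicClosure (Algebra.adjoin k (x '' T)) L).restrictScalars k :=
      Algebra.adjoin_le (by
        rintro _ ⟨ω, rfl⟩
        exact IntermediateField.isAlgebraic_adjoin_iff.mp (h ω))
    exact hle a.2
  refine (Algebra.IsAlgebraic.trdeg_le_cardinalMk k s).trans ?_
  haveI : Finite s := (hT.image _).to_subtype
  rw [← Nat.cast_card, Nat.card_coe_set_eq]
  exact_mod_cast Set.ncard_image_le hT

theorem height_ge_of_algebraic {k L : Type u} [Field k] [Field L] [Algebra k L] {Ω : Type u} [Fintype Ω]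
    (q : Ideal (MvPolynomial Ω k)) [q.IsPrime] (ψ : MvPolynomial Ω k →ₐ[k] L)
    (hker : RingHom.ker ψ.toRingHom = q) (T : Set Ω)
    (h : ∀ ω, IsAlgebraic (IntermediateField.adjoin k ((fun ω => ψ (X ω)) '' T)) (ψ (X ω))) (c : ℕ)
    (hc : T.ncard + c ≤ Fintype.card Ω) : (c : ℕ∞) ≤ q.height := by
  subst hker
  let A := MvPolynomial Ω k ⧸ RingHom.ker ψ.toRingHom
  obtain ⟨s, hs, hsdim⟩ := DimTrdeg.exists_trdeg_eq_ringKrullDim k A
  have hrange : ψ.range = Algebra.adjoin k (Set.range fun ω => ψ (X ω)) := by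
    rw [Algebra.adjoin_range_eq_range_aeval,
      show (aeval fun ω => ψ (X ω)) = ψ from MvPolynomial.algHom_ext fun ω => by simp]
  have h1 : Algebra.trdeg k A ≤ (T.ncard : Cardinal) := by
    refine le_trans (le_of_eq ?_) (trdeg_adjoin_le (fun ω => ψ (X ω)) T T.toFinite h)
    exact ((Ideal.quotientKerEquivRange ψ).trans (Subalgebra.equivOfEq _ _ hrange)).trdeg_eq
  rw [hs] at h1
  have h2 := card_le_height_add_dim (RingHom.ker ψ.toRingHom)
  rw [hsdim] at h2
  have h3 : s ≤ T.ncard := by exact_mod_cast h1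
  generalize (RingHom.ker ψ.toRingHom).height = ht at h2
  induction ht with
  | top => exact le_top
  | coe m =>
    have h4 : Fintype.card Ω ≤ m + s := by exact_mod_cast h2
    exact_mod_cast (by omega : c ≤ m)

/-- The coefficient slots of systems of forms of degrees `1, …, d`. -/
abbrev Slot (n d : ℕ) : Type := Σ j : Fin d, {α : Fin n →₀ ℕ // α.degree = (j : ℕ) + 1}

noncomputable instance (n D : ℕ) : Fintype {α : Fin n →₀ ℕ // α.degree = D} :=
  haveI : Finite {α : Fin n →₀ ℕ // α.degree = D} :=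
    ((Finsupp.finite_of_degree_le D).subset fun α (hα : α.degree = D) => hα.le).to_subtype
  Fintype.ofFinite _

/-- The form with given coefficients. -/
noncomputable def mkForm {R : Type*} [CommRing R] {n d : ℕ} (c : Slot n d → R) (j : Fin d) : MvPolynomial (Fin n) R :=
  ∑ α : {α : Fin n →₀ ℕ // α.degree = (j : ℕ) + 1}, monomial α.1 (c ⟨j, α⟩)

theorem isHomogeneous_mkForm {R : Type*} [CommRing R] {n d : ℕ} (c : Slot n d → R) (j : Fin d) :
    (mkForm c j).IsHomogeneous ((j : ℕ) + 1) :=
  IsHomogeneous.sum _ _ _ fun α _ => isHomogeneous_monomial _ α.2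

theorem map_mkForm {R S : Type*} [CommRing R] [CommRing S] (f : R →+* S) {n d : ℕ} (c : Slot n d → R) (j : Fin d) :
    map f (mkForm c j) = mkForm (fun s => f (c s)) j := by
  simp [mkForm]

theorem coeff_mkForm {R : Type*} [CommRing R] {n d : ℕ} (c : Slot n d → R) (s : Slot n d) :
    (mkForm c s.1).coeff s.2.1 = c s := by
  classical
  rw [mkForm, coeff_sum, Finset.sum_eq_single s.2]
  · rw [coeff_monomial, if_pos rfl]
  · exact fun b _ hb => by rw [coeff_monomial, if_neg fun h => hb (Subtype.ext h)]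
  · simp

theorem mkForm_coeff {R : Type*} [CommRing R] {n d : ℕ} (f : Fin d → MvPolynomial (Fin n) R)
    (hf : ∀ j : Fin d, (f j).IsHomogeneous ((j : ℕ) + 1)) (j : Fin d) :
    mkForm (fun s => (f s.1).coeff s.2.1) j = f j := by
  classical
  ext α
  by_cases hα : α.degree = (j : ℕ) + 1
  · exact coeff_mkForm (fun s => (f s.1).coeff s.2.1) ⟨j, α, hα⟩
  · rw [(isHomogeneous_mkForm _ j).coeff_eq_zero hα, (hf j).coeff_eq_zero hα]

/-- The systems with too large a common zero locus. -/
def badSystems (k : Type u) [Field k] (n d : ℕ) : Set (Slot n d → k) :=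
  {c | ((n + 1 - d : ℕ) : WithBot ℕ∞) ≤ ringKrullDim (MvPolynomial (Fin n) k ⧸ Ideal.span (Set.range (mkForm c)))}

theorem le_of_lt_cast (D : WithBot ℕ∞) (a b : ℕ) (h : D < (a : WithBot ℕ∞)) (hab : a ≤ b + 1) :
    D ≤ (b : WithBot ℕ∞) := by
  induction D with
  | bot => exact bot_le
  | coe D =>
    rw [show (a : WithBot ℕ∞) = ((a : ℕ∞) : WithBot ℕ∞) from rfl, WithBot.coe_lt_coe] at h
    rw [show (b : WithBot ℕ∞) = ((b : ℕ∞) : WithBot ℕ∞) from rfl, WithBot.coe_le_coe]
    induction D with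
    | top => exact absurd h (not_lt.mpr le_top)
    | coe D =>
      have h1 : D < a := ENat.natCast_lt_natCast.mp h
      exact ENat.natCast_le_natCast.mpr (by omega)

theorem map_gen {k B : Type*} [CommRing k] [CommRing B] [Algebra k B] {n d : ℕ}
    (e : MvPolynomial (Slot n d) k →ₐ[k] B) :
    (fun j => map e.toRingHom (mkForm (fun s => X s) j)) = mkForm fun s => e (X s) :=
  funext fun j => map_mkForm (R := MvPolynomial (Slot n d) k) e.toRingHom (fun s => X s) j

theorem dim_generic {k L : Type} [Field k] [IsAlgClosed k] [Field L] [IsAlgClosed L] [Algebra k L] {n d : ℕ}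
    (hdn : d + 1 ≤ n) (q : Ideal (MvPolynomial (Slot n d) k)) (ψ : MvPolynomial (Slot n d) k →ₐ[k] L)
    (hψ0 : ∀ a, ψ a = 0 ↔ a ∈ q) (hq : ∀ f, (∀ c ∈ badSystems k n d, eval c f = 0) → f ∈ q) :
    ((n + 1 - d : ℕ) : WithBot ℕ∞) ≤
      ringKrullDim (MvPolynomial (Fin n) L ⧸ Ideal.span (Set.range (mkForm fun s => ψ (X s)))) := by
  by_contra hlt
  have hle : ringKrullDim (MvPolynomial (Fin n) L ⧸ Ideal.span (Set.range fun j => map ψ.toRingHom (mkForm (fun s => X s) j))) ≤
      ((n - d : ℕ) : WithBot ℕ∞) := by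
    rw [map_gen]
    exact le_of_lt_cast _ _ _ (not_le.mp hlt) (by omega)
  have hP : ∀ a, ψ a ≠ 0 → ∃ e ∈ (fun c => (aeval c : MvPolynomial (Slot n d) k →ₐ[k] k)) '' badSystems k n d,
      e a ≠ 0 := fun a ha => by
    by_contra hcon
    push Not at hcon
    refine ha ((hψ0 a).mpr (hq a fun c hc => ?_))
    exact hcon _ ⟨c, hc, rfl⟩
  obtain ⟨e, ⟨c, hc, rfl⟩, he⟩ := exists_point_dim_le ψ _ hP
    (mkForm fun s => X s) (fun j => (j : ℕ) + 1) (fun j => by omega) (isHomogeneous_mkForm _) hle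
  rw [map_gen, show (fun s : Slot n d => (aeval c : MvPolynomial (Slot n d) k →ₐ[k] k) (X s)) = c from
    funext fun s => aeval_X c s] at he
  have h1 : (((n + 1 - d : ℕ) : ℕ∞) : WithBot ℕ∞) ≤ ((n - d : ℕ) : ℕ∞) := le_trans hc he
  have h2 : n + 1 - d ≤ n - d := ENat.natCast_le_natCast.mp (WithBot.coe_le_coe.mp h1)
  omega

theorem height_bad {k : Type} [Field k] [IsAlgClosed k] {n d : ℕ} (hdn : d + 1 ≤ n)
    (q : Ideal (MvPolynomial (Slot n d) k)) [q.IsPrime]
    (hq : ∀ f, (∀ c ∈ badSystems k n d, eval c f = 0) → f ∈ q) : (n : ℕ∞) ≤ q.height := by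
  classical
  let A := MvPolynomial (Slot n d) k ⧸ q
  let L := AlgebraicClosure (FractionRing A)
  let ψ : MvPolynomial (Slot n d) k →ₐ[k] L := (IsScalarTower.toAlgHom k A L).comp (Ideal.Quotient.mkₐ k q)
  have hψ0 : ∀ a, ψ a = 0 ↔ a ∈ q := fun a => by
    rw [← Ideal.Quotient.eq_zero_iff_mem]
    show algebraMap A L (Ideal.Quotient.mk q a) = 0 ↔ _
    rw [← map_zero (algebraMap A L)]
    refine ⟨fun h => ?_, fun h => by rw [h]⟩
    refine ((RingHom.injective (algebraMap (FractionRing A) L)).comp (IsFractionRing.injective A (FractionRing A))) ?_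
    simp only [Function.comp_apply, ← IsScalarTower.algebraMap_apply]
    exact h
  have hdim : ((n + 1 - d : ℕ) : WithBot ℕ∞) ≤
      ringKrullDim (MvPolynomial (Fin n) L ⧸ Ideal.span (Set.range (mkForm fun s => ψ (X s)))) := by
    exact dim_generic hdn q ψ hψ0 hq
  obtain ⟨l, E, hE, hEd, halg⟩ := exists_algebraic_coeffs (k := k) hdn (mkForm fun s => ψ (X s))
    (isHomogeneous_mkForm _) hdim
  let slot : Fin n → Slot n d := fun i => ⟨l, E i, hEd i⟩
  have hslot : Function.Injective slot := fun a b h => hE (congrArg (fun s : Slot n d => s.2.1) h)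
  let S : Set (Slot n d) := Set.range slot
  refine height_ge_of_algebraic q ψ (by ext a; exact hψ0 a) Sᶜ (fun ω => ?_) n ?_
  · set K := IntermediateField.adjoin k ((fun ω => ψ (X ω)) '' Sᶜ) with hK
    by_cases hω : ω ∈ S
    · obtain ⟨i, rfl⟩ := hω
      have hi := halg i
      rw [coeff_mkForm (fun s => ψ (X s)) ⟨l, E i, hEd i⟩] at hi
      refine hi.tower_top_of_subalgebra_le (A := _) ?_
      rw [IntermediateField.toSubalgebra_le_toSubalgebra, IntermediateField.adjoin_le_iff]
      rintro _ ⟨l', α, hne, rfl⟩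
      by_cases hα : α.degree = (l' : ℕ) + 1
      · rw [coeff_mkForm (fun s => ψ (X s)) ⟨l', α, hα⟩]
        refine IntermediateField.subset_adjoin _ _ ⟨⟨l', α, hα⟩, ?_, rfl⟩
        rintro ⟨j, hj⟩
        obtain ⟨rfl, hj⟩ := Sigma.mk.inj_iff.mp hj
        exact hne ⟨rfl, j, congrArg Subtype.val (eq_of_heq hj)⟩
      · rw [(isHomogeneous_mkForm _ l').coeff_eq_zero hα]
        exact K.zero_mem
    · exact isAlgebraic_algebraMap (⟨_, IntermediateField.subset_adjoin _ _ ⟨ω, hω, rfl⟩⟩ : K)
  · have h1 : S.ncard = n := by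
      rw [Set.ncard_range_of_injective hslot, Nat.card_fin]
    have h2 := Set.ncard_add_ncard_compl S
    rw [Nat.card_eq_fintype_card] at h2
    omega

/-- A linear functional in coordinates. -/
noncomputable def linFormAux {k V : Type u} [Field k] [AddCommGroup V] [Module k V] {ι : Type*} [Fintype ι] [DecidableEq ι]
    (l : Module.Dual k V) (e : V ≃ₗ[k] (ι → k)) : MvPolynomial ι k :=
  ∑ i, C (l (e.symm (Pi.single i 1))) * X i

/-- Coordinates identify polynomial functions with polynomials. -/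
noncomputable def polyEquiv {k V : Type u} [Field k] [Infinite k] [AddCommGroup V] [Module k V] {ι : Type*} [Fintype ι]
    (e : V ≃ₗ[k] (ι → k)) : MvPolynomial ι k ≃ₐ[k] ↥(LefPen.polyFunAlg k V) :=
  AlgEquiv.ofBijective (aeval fun i => ⟨fun v => e v i,
    Algebra.subset_adjoin ⟨(LinearMap.proj i).comp e.toLinearMap, rfl⟩⟩) (by
    classical
    have hval : ∀ p (v : V), ((aeval fun i => (⟨fun v => e v i,
        Algebra.subset_adjoin ⟨(LinearMap.proj i).comp e.toLinearMap, rfl⟩⟩ : LefPen.polyFunAlg k V)) p).1 v =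
        eval (e v) p := fun p v => by
      induction p using MvPolynomial.induction_on with
      | C a => simp
      | add p q hp hq => simp [hp, hq]
      | mul_X p i hp => simp [hp]
    refine ⟨fun p q h => MvPolynomial.funext fun a => ?_, ?_⟩
    · have := congrFun (congrArg Subtype.val h) (e.symm a)
      rwa [hval, hval, e.apply_symm_apply] at this
    · rintro ⟨f, hf⟩
      induction hf using Algebra.adjoin_induction with
      | mem f hf =>
        obtain ⟨l, rfl⟩ := hf
        refine ⟨linFormAux l e, Subtype.ext (funext fun v => ?_)⟩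
        rw [hval]
        simp only [linFormAux, map_sum, eval_mul, eval_C, eval_X]
        conv_rhs => rw [← e.symm_apply_apply v, pi_eq_sum_univ' (e v)]
        simp [mul_comm]
      | algebraMap r => exact ⟨C r, by simp⟩
      | add f g _ _ hf hg =>
        obtain ⟨p, hp⟩ := hf
        obtain ⟨q, hq⟩ := hg
        exact ⟨p + q, by rw [map_add, hp, hq]; rfl⟩
      | mul f g _ _ hf hg =>
        obtain ⟨p, hp⟩ := hf
        obtain ⟨q, hq⟩ := hg
        exact ⟨p * q, by rw [map_mul, hp, hq]; rfl⟩)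

theorem polyEquiv_apply {k V : Type u} [Field k] [Infinite k] [AddCommGroup V] [Module k V] {ι : Type*} [Fintype ι]
    (e : V ≃ₗ[k] (ι → k)) (p : MvPolynomial ι k) (v : V) : (polyEquiv e p).1 v = eval (e v) p := by
  induction p using MvPolynomial.induction_on with
  | C a => simp [polyEquiv]
  | add p q hp hq => simp [hp, hq]
  | mul_X p i hp => simp [hp]; simp [polyEquiv]

/-- `CodimGE` in coordinates. -/
theorem codimGE_of_coords {k V : Type u} [Field k] [Infinite k] [AddCommGroup V] [Module k V] {ι : Type*} [Fintype ι]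
    (e : V ≃ₗ[k] (ι → k)) (D : Set V) (c : ℕ)
    (h : ∀ q : Ideal (MvPolynomial ι k), q.IsPrime → (∀ f, (∀ v ∈ D, eval (e v) f = 0) → f ∈ q) → (c : ℕ∞) ≤ q.height) :
    LefPen.CodimGE k D c := by
  show (c : ℕ∞) ≤ (LefPen.vanishingFun k D).height
  rw [Ideal.height_eq_inf_minimalPrimes]
  refine le_iInf₂ fun P hP => ?_
  haveI := hP.1.1
  rw [← RingEquiv.height_comap (polyEquiv e).toRingEquiv P]
  refine h _ (Ideal.IsPrime.comap _) fun f hf => ?_
  refine hP.1.2 fun v hv => ?_
  rw [show ((polyEquiv e).toRingEquiv f) = polyEquiv e f from rfl, polyEquiv_apply]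
  exact hf v hv

theorem isGeneric_of_coords {k V : Type u} [Field k] [Infinite k] [AddCommGroup V] [Module k V] {ι : Type*} [Fintype ι]
    (e : V ≃ₗ[k] (ι → k)) (S : Set V) (f : MvPolynomial ι k) (hf : f ≠ 0) (h : ∀ v, eval (e v) f ≠ 0 → v ∈ S) :
    LefPen.IsGeneric k S := by
  refine ⟨(polyEquiv e f).1, (polyEquiv e f).2, ?_, fun v hv => h v (by rwa [polyEquiv_apply] at hv)⟩
  by_contra hcon
  push Not at hcon
  refine hf ((polyEquiv e).injective ?_)
  rw [map_zero]
  exact Subtype.ext (funext hcon)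

end Groth.Agent.ForSys
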