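import Groth.Agent.ForSys.Height

/-!
# Lines through the points of a general hypersurface
-/

set_option autoImplicit false

universe u

namespace Groth.Agent.ForSys

open MvPolynomial

/-- The form obtained from the Taylor components at a point with coordinates `u` in the chart `a`. -/
noncomputable def taylorForm {R : Type*} [CommRing R] {n d : ℕ} (a : Fin (n + 1)) (c : Slot n d → R) (u : Fin n → R) :
    MvPolynomial (Fin (n + 1)) R :=
  ∑ j : Fin d, X a ^ (d - ((j : ℕ) + 1)) * aeval (fun i => X (a.succAbove i) - C (u i) * X a) (mkForm c j)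

theorem map_taylorForm {R S : Type*} [CommRing R] [CommRing S] (f : R →+* S) {n d : ℕ} (a : Fin (n + 1))
    (c : Slot n d → R) (u : Fin n → R) :
    map f (taylorForm a c u) = taylorForm a (fun s => f (c s)) (fun i => f (u i)) := by
  simp only [taylorForm, map_sum, map_mul, map_pow, map_X]
  refine Finset.sum_congr rfl fun j _ => ?_
  congr 1
  simp only [mkForm, map_sum, aeval_monomial, map_mul, MvPolynomial.algebraMap_eq, map_C, map_finsuppProd, map_pow,
    map_sub, map_X]

theorem eval_taylorForm {R : Type*} [CommRing R] {n d : ℕ} (a : Fin (n + 1)) (c : Slot n d → R) (u : Fin n → R)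
    (x : Fin (n + 1) → R) :
    eval x (taylorForm a c u) =
      ∑ j : Fin d, x a ^ (d - ((j : ℕ) + 1)) * eval (fun i => x (a.succAbove i) - u i * x a) (mkForm c j) := by
  simp only [taylorForm, map_sum, map_mul, map_pow, eval_X]
  refine Finset.sum_congr rfl fun j _ => ?_
  congr 1
  rw [← aeval_eq_eval, ← AlgHom.comp_apply, comp_aeval, ← aeval_eq_eval]
  refine congrFun (congrArg DFunLike.coe (algHom_ext fun i => ?_)) _
  simp

theorem eval_smul_of_isHomogeneous {R σ : Type*} [CommRing R] {p : MvPolynomial σ R} {D : ℕ}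
    (hp : p.IsHomogeneous D) (t : R) (x : σ → R) : eval (fun i => t * x i) p = t ^ D * eval x p := by
  rw [eval_eq, eval_eq, Finset.mul_sum]
  refine Finset.sum_congr rfl fun α hα => ?_
  have h5 := hp (mem_support_iff.mp hα)
  rw [Finsupp.weight_apply, Finsupp.sum, Finset.sum_congr rfl fun j _ => show α j • (1 : σ → ℕ) j = α j by simp] at h5
  simp only [mul_pow, Finset.prod_mul_distrib, Finset.prod_pow_eq_pow_sum, h5]
  ring

theorem height_add_dim_le {R : Type*} [CommRing R] (q : Ideal R) [q.IsPrime] :
    (q.height : WithBot ℕ∞) + ringKrullDim (R ⧸ q) ≤ ringKrullDim R := by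
  let p : PrimeSpectrum R := ⟨q, inferInstance⟩
  haveI : Nonempty (PrimeSpectrum R) := ⟨p⟩
  have h1 : ringKrullDim (R ⧸ q) = (Order.coheight p : WithBot ℕ∞) := by
    rw [ringKrullDim_quotient, Order.coheight_eq_krullDim_Ici]
    refine Order.krullDim_eq_of_orderIso (OrderIso.setCongr _ _ ?_)
    ext r
    exact PrimeSpectrum.mem_zeroLocus _ _
  rw [h1, PrimeSpectrum.height_eq_orderHeight p, ← WithBot.coe_add]
  show _ ≤ Order.krullDim (PrimeSpectrum R)
  rw [Order.krullDim_eq_iSup_height_add_coheight_of_nonempty]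
  exact WithBot.coe_le_coe.mpr (le_iSup (fun r => Order.height r + Order.coheight r) p)

/-- The monomials of degree `d`. -/
abbrev Mon (n d : ℕ) : Type := {β : Fin (n + 1) →₀ ℕ // β.degree = d}

theorem card_slot_lt (n d : ℕ) (a : Fin (n + 1)) : Fintype.card (Slot n d) < Fintype.card (Mon n d) := by
  classical
  let f : Slot n d → Mon n d := fun s => ⟨s.2.1.mapDomain a.succAbove + Finsupp.single a (d - ((s.1 : ℕ) + 1)), by
    rw [map_add, Finsupp.degree_single, Finsupp.degree_mapDomain, s.2.2]
    have := s.1.2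
    omega⟩
  have hval : ∀ s i, (f s).1 (a.succAbove i) = s.2.1 i := fun s i => by
    simp only [f, Finsupp.add_apply, Finsupp.mapDomain_apply Fin.succAbove_right_injective,
      Finsupp.single_apply, if_neg (Fin.ne_succAbove a i), add_zero]
  have hf : Function.Injective f := fun s t h => by
    have h1 : s.2.1 = t.2.1 := Finsupp.ext fun i => by rw [← hval, ← hval, h]
    obtain ⟨j, α, hα⟩ := s
    obtain ⟨j', α', hα'⟩ := t
    obtain rfl : α = α' := h1
    obtain rfl : j = j' := Fin.ext (by omega)
    rfl
  refine Fintype.card_lt_of_injective_of_notMem f hf (b := ⟨Finsupp.single a d, Finsupp.degree_single _ _⟩) ?_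
  rintro ⟨s, hs⟩
  have h0 : s.2.1 = 0 := Finsupp.ext fun i => by
    rw [← hval, hs]
    exact Finsupp.single_eq_of_ne (Fin.succAbove_ne a i)
  have := s.2.2
  rw [h0, map_zero] at this
  omega

/-- A nonzero polynomial in the coefficients vanishing on all forms with a bad point in the chart `a`. -/
theorem exists_poly_chart {k : Type} [Field k] [IsAlgClosed k] {n d : ℕ} (hdn : d + 1 ≤ n) (a : Fin (n + 1)) :
    ∃ f : MvPolynomial (Mon n d) k, f ≠ 0 ∧ ∀ c ∈ badSystems k n d, ∀ u : Fin n → k,
      eval (fun β => (taylorForm a c u).coeff β.1) f = 0 := by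
  classical
  let Ib : Ideal (MvPolynomial (Slot n d) k) := ⨅ c : badSystems k n d, RingHom.ker (eval (c : Slot n d → k))
  have hIb : ∀ f, f ∈ Ib ↔ ∀ c ∈ badSystems k n d, eval c f = 0 := fun f => by
    simp [Ib]
  let W := MvPolynomial (Slot n d ⊕ Fin n) k
  let π : MvPolynomial (Mon n d) k →ₐ[k] W :=
    aeval fun β => (taylorForm a (fun s => (X (Sum.inl s) : W)) (fun i => X (Sum.inr i))).coeff β.1
  have hπ : ∀ (c : Slot n d → k) (u : Fin n → k) f,
      eval (fun β => (taylorForm a c u).coeff β.1) f = eval (Sum.elim c u) (π f) := by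
    intro c u f
    show _ = (aeval (Sum.elim c u) : W →ₐ[k] k) (π f)
    rw [← AlgHom.comp_apply, comp_aeval, ← aeval_eq_eval]
    refine congrFun (congrArg DFunLike.coe (algHom_ext fun β => ?_)) _
    rw [aeval_X, aeval_X, ← AlgHom.coe_toRingHom, ← coeff_map, map_taylorForm]
    simp
  have hker : ∀ q : Ideal (MvPolynomial (Slot n d) k), q ∈ Ib.minimalPrimes → ∃ f : MvPolynomial (Mon n d) k, f ≠ 0 ∧
      ∀ c : Slot n d → k, (∀ g ∈ q, eval c g = 0) → ∀ u : Fin n → k, eval (Sum.elim c u) (π f) = 0 := by
    intro q hq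
    haveI := hq.1.1
    have hht := height_bad hdn q fun f hf => hq.1.2 ((hIb f).mpr hf)
    let A := MvPolynomial (Slot n d) k ⧸ q
    let B := MvPolynomial (Fin n) A
    haveI : Algebra.FiniteType k B := Algebra.FiniteType.trans (S := A) inferInstance inferInstance
    let ρ : W →ₐ[k] B := aeval (Sum.elim (fun s => C (Ideal.Quotient.mk q (X s))) X)
    obtain ⟨s, hs, hsdim⟩ := DimTrdeg.exists_trdeg_eq_ringKrullDim k A
    obtain ⟨t, ht, htdim⟩ := DimTrdeg.exists_trdeg_eq_ringKrullDim k B
    have hst : t = s + n := by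
      have h1 : ringKrullDim B = ringKrullDim A + n := by
        rw [MvPolynomial.ringKrullDim_of_isNoetherianRing, Nat.card_fin]
      rw [htdim, hsdim] at h1
      exact_mod_cast h1
    have hs2 : n + s ≤ Fintype.card (Slot n d) := by
      have h1 := height_add_dim_le q
      rw [hsdim, MvPolynomial.ringKrullDim_of_isNoetherianRing, ringKrullDim_eq_zero_of_field] at h1
      have h2 : ((n : ℕ∞) : WithBot ℕ∞) + (s : WithBot ℕ∞) ≤ _ := (add_le_add (WithBot.coe_le_coe.mpr hht) le_rfl).trans h1
      rw [zero_add, Nat.card_eq_fintype_card] at h2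
      exact_mod_cast h2
    have hninj : ¬ Function.Injective (ρ.comp π) := fun hinj => by
      have h0 : AlgebraicIndependent k ((ρ.comp π) ∘ (X : Mon n d → MvPolynomial (Mon n d) k)) :=
        AlgebraicIndependent.map' (x := (X : Mon n d → MvPolynomial (Mon n d) k)) (algebraicIndependent_X (Mon n d) k) hinj
      have h1 := h0.cardinalMk_le_trdeg
      rw [ht, Cardinal.mk_fintype] at h1
      have h2 : Fintype.card (Mon n d) ≤ t := by exact_mod_cast h1
      have := card_slot_lt n d a
      omega
    rw [injective_iff_map_eq_zero] at hninj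
    push Not at hninj
    obtain ⟨f, hf, hf0⟩ := hninj
    refine ⟨f, hf0, fun c hc u => ?_⟩
    let ev : A →+* k := Ideal.Quotient.lift q (eval c) hc
    have : (eval₂Hom ev u).comp ρ.toRingHom = eval (Sum.elim c u) := by
      refine MvPolynomial.ringHom_ext (fun r => ?_) fun x => ?_
      · show eval₂Hom ev u (ρ (algebraMap k W r)) = eval _ (C r)
        rw [AlgHom.commutes, eval_C, IsScalarTower.algebraMap_apply k A B, MvPolynomial.algebraMap_eq, eval₂Hom_C]
        show ev (Ideal.Quotient.mk q (C r)) = r
        rw [Ideal.Quotient.lift_mk, eval_C]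
      · rcases x with x | x
        · show eval₂Hom ev u (ρ (X (Sum.inl x))) = eval _ (X (Sum.inl x))
          rw [show ρ (X (Sum.inl x)) = C (Ideal.Quotient.mk q (X x)) from aeval_X _ _, eval₂Hom_C, eval_X]
          show eval c (X x) = _
          simp
        · show eval₂Hom ev u (ρ (X (Sum.inr x))) = eval _ (X (Sum.inr x))
          rw [show ρ (X (Sum.inr x)) = X x from aeval_X _ _, eval₂Hom_X', eval_X]
          rfl
    rw [← this, RingHom.comp_apply]
    show eval₂Hom ev u ((ρ.comp π) f) = 0
    rw [hf, map_zero]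
  choose g hg0 hg using hker
  have hfin := Ideal.finite_minimalPrimes_of_isNoetherianRing _ Ib
  haveI := hfin.fintype
  refine ⟨∏ q : Ib.minimalPrimes, g q.1 q.2, Finset.prod_ne_zero_iff.mpr fun q _ => hg0 q.1 q.2, fun c hc u => ?_⟩
  rw [map_prod]
  haveI : (RingHom.ker (eval c)).IsPrime := RingHom.ker_isPrime _
  obtain ⟨q, hq, hqle⟩ := Ideal.exists_minimalPrimes_le
    (show Ib ≤ RingHom.ker (eval c) from fun f hf => (hIb f).mp hf c hc)
  refine Finset.prod_eq_zero (Finset.mem_univ ⟨q, hq⟩) ?_
  rw [hπ]
  exact hg q hq c (fun f hf => hqle hf) u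

theorem totalDegree_aeval_le {R σ τ : Type*} [CommRing R] (p : MvPolynomial σ R) (g : σ → MvPolynomial τ R)
    (hg : ∀ i, (g i).totalDegree ≤ 1) : (aeval g p).totalDegree ≤ p.totalDegree := by
  classical
  rw [aeval_def, eval₂_eq]
  refine (totalDegree_finsetSum _ _).trans (Finset.sup_le fun α hα => ?_)
  refine (totalDegree_mul _ _).trans ?_
  rw [MvPolynomial.algebraMap_eq, totalDegree_C, zero_add]
  refine (totalDegree_finsetProd _ _).trans (le_trans ?_ (le_totalDegree hα))
  exact Finset.sum_le_sum fun i _ => (totalDegree_pow _ _).trans (Nat.mul_le_mul_left (α i) (hg i) |>.trans (mul_one _).le)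

/-- Taylor components of a form at one of its zeros. -/
theorem exists_components {k : Type u} [Field k] [Infinite k] {n d : ℕ} (a : Fin (n + 1))
    (Φ : MvPolynomial (Fin (n + 1)) k) (hΦ : Φ.IsHomogeneous d) (u : Fin n → k)
    (h0 : eval (a.insertNth 1 u) Φ = 0) :
    ∃ c : Slot n d → k, Φ = taylorForm a c u ∧
      ∀ x : Fin n → k, eval (a.insertNth 1 fun i => x i + u i) Φ = ∑ j : Fin d, eval x (mkForm c j) := by
  classical
  let g : Fin (n + 1) → MvPolynomial (Fin n) k := a.insertNth 1 fun i => X i + C (u i)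
  let φ : MvPolynomial (Fin n) k := aeval g Φ
  have hφ : ∀ x : Fin n → k, eval x φ = eval (a.insertNth 1 fun i => x i + u i) Φ := fun x => by
    show (aeval x : MvPolynomial (Fin n) k →ₐ[k] k) (aeval g Φ) = _
    rw [← AlgHom.comp_apply, comp_aeval, ← aeval_eq_eval]
    refine congrFun (congrArg DFunLike.coe (algHom_ext fun i => ?_)) _
    rcases Fin.eq_self_or_eq_succAbove a i with rfl | ⟨i, rfl⟩ <;> simp [g]
  have hdeg : φ.totalDegree ≤ d := by
    refine (totalDegree_aeval_le Φ g fun i => ?_).trans hΦ.totalDegree_le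
    rcases Fin.eq_self_or_eq_succAbove a i with rfl | ⟨i, rfl⟩
    · simp [g]
    · simp only [g, Fin.insertNth_apply_succAbove]
      refine (totalDegree_add _ _).trans ?_
      simp [totalDegree_X, totalDegree_C]
  let c : Slot n d → k := fun s => (homogeneousComponent ((s.1 : ℕ) + 1) φ).coeff s.2.1
  have hc : ∀ j, mkForm c j = homogeneousComponent ((j : ℕ) + 1) φ :=
    mkForm_coeff (fun j : Fin d => homogeneousComponent ((j : ℕ) + 1) φ) fun j => homogeneousComponent_isHomogeneous _ _
  have hsum : φ = ∑ j : Fin d, mkForm c j := by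
    have h1 : ∑ i ∈ Finset.range (d + 1), homogeneousComponent i φ = φ := by
      conv_rhs => rw [← sum_homogeneousComponent φ]
      refine (Finset.sum_subset (Finset.range_subset_range.mpr (by omega)) fun i _ hi => ?_).symm
      exact homogeneousComponent_eq_zero _ _ (by simp at hi; omega)
    have h2 : homogeneousComponent 0 φ = 0 := by
      rw [homogeneousComponent_zero, ← constantCoeff_eq, ← eval_zero, hφ]
      simp only [Pi.zero_apply, zero_add]
      rw [h0, map_zero]
    rw [← h1, Finset.sum_range_succ', h2, add_zero, Finset.sum_range]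
    exact Finset.sum_congr rfl fun j _ => (hc j).symm
  have hev : ∀ x : Fin n → k, eval (a.insertNth 1 fun i => x i + u i) Φ = ∑ j : Fin d, eval x (mkForm c j) := fun x => by
    rw [← hφ, hsum, map_sum]
  refine ⟨c, ?_, hev⟩
  have hX : X a * (Φ - taylorForm a c u) = 0 := by
    refine MvPolynomial.funext fun x => ?_
    rw [map_mul, eval_X, map_zero, map_sub]
    by_cases hx : x a = 0
    · rw [hx, zero_mul]
    · have h1 := hev fun i => (x (a.succAbove i) - u i * x a) / x a
      have h2 : (fun i => x a * (a.insertNth 1 (fun i => (x (a.succAbove i) - u i * x a) / x a + u i) : Fin (n + 1) → k) i) = x := by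
        funext i
        rcases Fin.eq_self_or_eq_succAbove a i with rfl | ⟨i, rfl⟩
        · simp
        · simp only [Fin.insertNth_apply_succAbove]
          field_simp
          ring
      have h3 := eval_smul_of_isHomogeneous hΦ (x a)
        (a.insertNth 1 (fun i => (x (a.succAbove i) - u i * x a) / x a + u i) : Fin (n + 1) → k)
      rw [h2, h1, Finset.mul_sum] at h3
      rw [h3, eval_taylorForm, ← Finset.sum_sub_distrib, Finset.sum_eq_zero, mul_zero]
      intro j _
      have h4 := eval_smul_of_isHomogeneous (isHomogeneous_mkForm c j) (x a)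
        (fun i => (x (a.succAbove i) - u i * x a) / x a)
      have h5 : (fun i => x a * ((x (a.succAbove i) - u i * x a) / x a)) = fun i => x (a.succAbove i) - u i * x a :=
        funext fun i => mul_div_cancel₀ _ hx
      rw [h5] at h4
      rw [h4, ← mul_assoc, ← pow_add, show d - ((j : ℕ) + 1) + ((j : ℕ) + 1) = d by omega, sub_self]
  exact sub_eq_zero.mp ((mul_eq_zero.mp hX).resolve_left (X_ne_zero a))

end Groth.Agent.ForSys
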