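import Groth.Agent.ForSys.Lines

/-!
# Linear subspaces on hypersurfaces: the incidence variety in charts
-/

set_option autoImplicit false

universe u

namespace Groth.Agent.ForSys

open MvPolynomial

/-- The degree-`d` monomials not supported inside the image of `s`. -/
abbrev MonOut {n m : ℕ} (d : ℕ) (s : Fin (m + 1) → Fin (n + 1)) : Type :=
  {β : Mon n d // ¬ ∀ i ∈ β.1.support, i ∈ Set.range s}

/-- The coordinates outside the image of `s`. -/
abbrev Compl {n m : ℕ} (s : Fin (m + 1) → Fin (n + 1)) : Type := {i : Fin (n + 1) // i ∉ Set.range s}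

/-- The shearing substitution attached to a matrix. -/
noncomputable def shear {R : Type*} [CommRing R] {n m : ℕ} (s : Fin (m + 1) → Fin (n + 1))
    (a : Compl s × Fin (m + 1) → R) (i : Fin (n + 1)) : MvPolynomial (Fin (n + 1)) R :=
  open Classical in
  if h : i ∈ Set.range s then X i else X i + ∑ l, C (a (⟨i, h⟩, l)) * X (s l)

/-- The form with given coefficients outside the image of `s`. -/
noncomputable def outForm {R : Type*} [CommRing R] {n m d : ℕ} (s : Fin (m + 1) → Fin (n + 1))
    (c : MonOut d s → R) : MvPolynomial (Fin (n + 1)) R :=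
  haveI : Fintype (MonOut d s) := Fintype.ofFinite _
  ∑ β, monomial β.1.1 (c β)

/-- The general form containing the plane given by `a`. -/
noncomputable def planeForm {R : Type*} [CommRing R] {n m d : ℕ} (s : Fin (m + 1) → Fin (n + 1))
    (c : MonOut d s → R) (a : Compl s × Fin (m + 1) → R) : MvPolynomial (Fin (n + 1)) R :=
  aeval (shear s fun x => - a x) (outForm s c)

theorem map_planeForm {R S : Type*} [CommRing R] [CommRing S] (f : R →+* S) {n m d : ℕ} (s : Fin (m + 1) → Fin (n + 1))
    (c : MonOut d s → R) (a : Compl s × Fin (m + 1) → R) :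
    map f (planeForm s c a) = planeForm s (fun β => f (c β)) fun x => f (a x) := by
  classical
  simp only [planeForm, outForm, map_sum, aeval_monomial, map_mul, MvPolynomial.algebraMap_eq, map_C, map_finsuppProd,
    map_pow]
  refine Finset.sum_congr rfl fun β _ => ?_
  congr 1
  refine Finsupp.prod_congr fun i _ => ?_
  congr 1
  unfold shear
  split_ifs with h
  · simp
  · simp

theorem card_mon_in {n m d : ℕ} (s : Fin (m + 1) → Fin (n + 1)) (hs : Function.Injective s)
    [Fintype {β : Mon n d // ∀ i ∈ β.1.support, i ∈ Set.range s}] :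
    Fintype.card {β : Mon n d // ∀ i ∈ β.1.support, i ∈ Set.range s} = Nat.choose (m + d) m := by
  classical
  let e : {β : Mon n d // ∀ i ∈ β.1.support, i ∈ Set.range s} ≃ {α : Fin (m + 1) →₀ ℕ // α.degree = d} :=
    { toFun := fun β => ⟨β.1.1.comapDomain s hs.injOn, by
        rw [← Finsupp.degree_mapDomain (f := s), Finsupp.mapDomain_comapDomain s hs β.1.1 fun i hi => β.2 i hi]
        exact β.1.2⟩
      invFun := fun α => ⟨⟨α.1.mapDomain s, by rw [Finsupp.degree_mapDomain]; exact α.2⟩, fun i hi => by
        obtain ⟨l, -, rfl⟩ := Finset.mem_image.mp (Finsupp.mapDomain_support hi)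
        exact ⟨l, rfl⟩⟩
      left_inv := fun β => Subtype.ext (Subtype.ext (Finsupp.mapDomain_comapDomain s hs β.1.1 fun i hi => β.2 i hi))
      right_inv := fun α => Subtype.ext (Finsupp.comapDomain_mapDomain s hs α.1) }
  rw [Fintype.card_congr e, Fintype.card_of_subtype ((Finset.univ : Finset (Fin (m + 1))).finsuppAntidiag d)
    fun α => by simp [Finset.mem_finsuppAntidiag, Finsupp.degree_eq_sum],
    Finset.card_finsuppAntidiag_nat_eq_choose, Finset.card_univ, Fintype.card_fin,
    show m + 1 + d - 1 = m + d by omega]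
  exact Nat.choose_symm_add.symm

theorem card_compl {n m : ℕ} (s : Fin (m + 1) → Fin (n + 1)) (hs : Function.Injective s) [Fintype (Compl s)] :
    Fintype.card (Compl s) = n - m := by
  classical
  have h1 : Fintype.card (Compl s) = Fintype.card (Fin (n + 1)) - Fintype.card (Set.range s) :=
    Fintype.card_subtype_compl _
  rw [h1, Set.card_range_of_injective hs, Fintype.card_fin, Fintype.card_fin]
  omega

/-- In a chart the planes on a general form are finite in number, and absent if the expected dimension is negative. -/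
theorem exists_poly_planes {k : Type u} [Field k] [IsAlgClosed k] {n m d : ℕ} (s : Fin (m + 1) → Fin (n + 1))
    (hs : Function.Injective s) (hle : (m + 1) * (n - m) ≤ Nat.choose (m + d) m) :
    ∃ f : MvPolynomial (Mon n d) k, f ≠ 0 ∧ ∀ G : MvPolynomial (Fin (n + 1)) k,
      eval (fun β : Mon n d => G.coeff β.1) f ≠ 0 →
      {a : Compl s × Fin (m + 1) → k | ∃ c : MonOut d s → k, G = planeForm s c a}.Finite ∧
        ((m + 1) * (n - m) < Nat.choose (m + d) m →
          ∀ (a : Compl s × Fin (m + 1) → k) (c : MonOut d s → k), G ≠ planeForm s c a) := by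
  classical
  let Λ := MonOut d s ⊕ (Compl s × Fin (m + 1))
  let W := MvPolynomial Λ k
  let π : MvPolynomial (Mon n d) k →ₐ[k] W :=
    aeval fun β => (planeForm s (fun b => (X (Sum.inl b) : W)) (fun x => X (Sum.inr x))).coeff β.1
  have hπ : ∀ (c : MonOut d s → k) (a : Compl s × Fin (m + 1) → k) f,
      eval (fun β : Mon n d => (planeForm s c a).coeff β.1) f = eval (Sum.elim c a) (π f) := by
    intro c a f
    show _ = (aeval (Sum.elim c a) : W →ₐ[k] k) (π f)
    rw [← AlgHom.comp_apply, comp_aeval, ← aeval_eq_eval]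
    refine congrFun (congrArg DFunLike.coe (algHom_ext fun β => ?_)) _
    rw [aeval_X, aeval_X, ← AlgHom.coe_toRingHom, ← coeff_map, map_planeForm]
    simp
  have hcard : Fintype.card Λ + Nat.choose (m + d) m = Fintype.card (Mon n d) + (m + 1) * (n - m) := by
    have h1 := Fintype.card_subtype_compl (fun β : Mon n d => ∀ i ∈ β.1.support, i ∈ Set.range s)
    rw [card_mon_in s hs] at h1
    have h2 := Fintype.card_subtype_le fun β : Mon n d => ∀ i ∈ β.1.support, i ∈ Set.range s
    rw [card_mon_in s hs] at h2
    rw [Fintype.card_sum, Fintype.card_prod, card_compl s hs, Fintype.card_fin]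
    rw [show Fintype.card (MonOut d s) = _ from h1, Nat.mul_comm (n - m)]
    omega
  have htr : Algebra.trdeg k W = (Fintype.card Λ : Cardinal) := by
    rw [MvPolynomial.trdeg_of_isDomain, Cardinal.mk_fintype, Cardinal.lift_natCast]
  by_cases hinj : Function.Injective π
  · have hind : AlgebraicIndependent k (π ∘ (X : Mon n d → MvPolynomial (Mon n d) k)) :=
      AlgebraicIndependent.map' (x := (X : Mon n d → MvPolynomial (Mon n d) k)) (algebraicIndependent_X (Mon n d) k) hinj
    have h1 := hind.lift_cardinalMk_le_trdeg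
    rw [htr, Cardinal.mk_fintype, Cardinal.lift_natCast, Cardinal.lift_natCast] at h1
    have hMΛ : Fintype.card (Mon n d) ≤ Fintype.card Λ := by exact_mod_cast h1
    have halg : Algebra.IsAlgebraic (Algebra.adjoin k (Set.range (π ∘ (X : Mon n d → MvPolynomial (Mon n d) k)))) W :=
      (hind.isTranscendenceBasis_of_lift_trdeg_le_of_finite (by
        rw [htr, Cardinal.mk_fintype, Cardinal.lift_natCast, Cardinal.lift_natCast]
        exact_mod_cast (by omega : Fintype.card Λ ≤ Fintype.card (Mon n d)))).isAlgebraic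
    have hp : ∀ x : Compl s × Fin (m + 1), ∃ p : Polynomial (MvPolynomial (Mon n d) k), p ≠ 0 ∧
        Polynomial.eval₂ π.toRingHom (X (Sum.inr x) : W) p = 0 := by
      intro x
      obtain ⟨p₀, hp₀, hp₀x⟩ := halg.isAlgebraic (X (Sum.inr x) : W)
      let ρ : MvPolynomial (Mon n d) k →ₐ[k] Algebra.adjoin k (Set.range (π ∘ (X : Mon n d → MvPolynomial (Mon n d) k))) :=
        aeval fun β => ⟨π (X β), Algebra.subset_adjoin ⟨β, rfl⟩⟩
      have hρ : ∀ q, ((ρ q : Algebra.adjoin k (Set.range (π ∘ (X : Mon n d → MvPolynomial (Mon n d) k)))) : W) = π q := fun q => by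
        rw [← Subalgebra.coe_val, ← AlgHom.comp_apply]
        exact DFunLike.congr_fun (MvPolynomial.algHom_ext fun β => by simp [ρ]) q
      have hρs : Function.Surjective ρ.toRingHom := fun y => by
        have hy : (y : W) ∈ (aeval (π ∘ X) : MvPolynomial (Mon n d) k →ₐ[k] W).range := by
          rw [← Algebra.adjoin_range_eq_range_aeval]; exact y.2
        obtain ⟨q, hq⟩ := hy
        refine ⟨q, Subtype.ext ((hρ q).trans (Eq.trans ?_ hq))⟩
        exact DFunLike.congr_fun (MvPolynomial.algHom_ext fun β => by simp) q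
      obtain ⟨p, hp⟩ := Polynomial.map_surjective ρ.toRingHom hρs p₀
      refine ⟨p, fun h => hp₀ (by rw [← hp, h, Polynomial.map_zero]), ?_⟩
      rw [← hp₀x, ← hp, Polynomial.aeval_def, Polynomial.eval₂_map]
      exact congrArg (fun f => Polynomial.eval₂ f _ p) (RingHom.ext fun q => (hρ q).symm)
    choose p hp0 hpx using hp
    refine ⟨∏ x, (p x).leadingCoeff,
      Finset.prod_ne_zero_iff.mpr fun x _ => Polynomial.leadingCoeff_ne_zero.mpr (hp0 x), fun G hG => ⟨?_, fun hlt => ?_⟩⟩
    · rw [map_prod, Finset.prod_ne_zero_iff] at hG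
      let ev : MvPolynomial (Mon n d) k →+* k := eval fun β : Mon n d => G.coeff β.1
      refine Set.Finite.subset (Set.Finite.pi fun x => (((p x).map ev).roots.toFinset : Finset k).finite_toSet) ?_
      rintro a ⟨c, rfl⟩ x -
      have hne : (p x).map ev ≠ 0 := fun h => hG x (Finset.mem_univ x) (by
        have h2 := congrArg (fun q => q.coeff (p x).natDegree) h
        rw [Polynomial.coeff_map, Polynomial.coeff_zero] at h2
        exact h2)
      simp only [Finset.mem_coe, Multiset.mem_toFinset, Polynomial.mem_roots hne, Polynomial.IsRoot.def]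
      have h3 := congrArg (eval (Sum.elim c a)) (hpx x)
      rw [Polynomial.hom_eval₂, map_zero, eval_X] at h3
      rw [Polynomial.eval_map, ← h3]
      exact congrArg (fun f => Polynomial.eval₂ f (a x) (p x)) (RingHom.ext fun q => hπ c a q)
    · omega
  · rw [injective_iff_map_eq_zero] at hinj
    push Not at hinj
    obtain ⟨f, hf, hf0⟩ := hinj
    refine ⟨f, hf0, fun G hG => ?_⟩
    have hno : ∀ (a : Compl s × Fin (m + 1) → k) (c : MonOut d s → k), G ≠ planeForm s c a := by
      rintro a c rfl
      exact hG (by rw [hπ, hf, map_zero])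
    exact ⟨Set.Finite.subset Set.finite_empty fun a ⟨c, hc⟩ => absurd hc (hno a c), fun _ => hno⟩

/-- The plane with matrix `a` in the chart `s`. -/
def planeOf {k : Type u} [Field k] {n m : ℕ} (s : Fin (m + 1) → Fin (n + 1)) (a : Compl s × Fin (m + 1) → k) :
    Set (Fin (n + 1) → k) :=
  {u | ∀ i : Compl s, u i.1 = ∑ l, a (i, l) * u (s l)}

theorem exists_chart {k : Type u} [Field k] {n m : ℕ} (U : Submodule k (Fin (n + 1) → k))
    (hU : Module.finrank k U = m + 1) :
    ∃ (s : Fin (m + 1) → Fin (n + 1)) (a : Compl s × Fin (m + 1) → k), Function.Injective s ∧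
      (U : Set (Fin (n + 1) → k)) = planeOf s a := by
  classical
  let φ : Fin (n + 1) → Module.Dual k U := fun i => (LinearMap.proj i).comp U.subtype
  have hspan : Submodule.span k (Set.range φ) = ⊤ := by
    refine (Subspace.dualCoannihilator_dualAnnihilator_eq).symm.trans ?_
    rw [Submodule.dualAnnihilator_eq_top_iff, Submodule.eq_bot_iff]
    intro u hu
    rw [Submodule.mem_dualCoannihilator] at hu
    exact Subtype.ext (funext fun i => hu (φ i) (Submodule.subset_span ⟨i, rfl⟩))
  obtain ⟨b, hbsub, hbspan, hblin⟩ := exists_linearIndependent k (Set.range φ)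
  rw [hspan] at hbspan
  let B := Module.Basis.mk hblin (by rw [Subtype.range_coe, hbspan])
  haveI : Finite b := ((Set.finite_range φ).subset hbsub).to_subtype
  haveI : Fintype b := Fintype.ofFinite _
  have hb : Fintype.card b = m + 1 := by
    rw [← Module.finrank_eq_card_basis B, Subspace.dual_finrank_eq, hU]
  let e : Fin (m + 1) ≃ b := (Fintype.equivFinOfCardEq hb).symm
  choose s hs using fun l : Fin (m + 1) => hbsub (e l).2
  have hsinj : Function.Injective s := fun x y h => e.injective (Subtype.ext (by rw [← hs x, ← hs y, h]))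
  let P : U →ₗ[k] (Fin (m + 1) → k) := LinearMap.pi fun l => φ (s l)
  have hP : Function.Injective P := by
    rw [← LinearMap.ker_eq_bot, Submodule.eq_bot_iff]
    intro u hu
    refine Subtype.ext (funext fun i => ?_)
    have hall : ∀ ψ ∈ Submodule.span k b, ψ u = 0 := fun ψ hψ => by
      induction hψ using Submodule.span_induction with
      | mem ψ hψ =>
        obtain ⟨l, hl⟩ := e.surjective ⟨ψ, hψ⟩
        have := congrFun (LinearMap.mem_ker.mp hu) l
        simp only [P, LinearMap.pi_apply, hs, hl] at this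
        exact this
      | zero => simp
      | add x y _ _ hx hy => simp [hx, hy]
      | smul c x _ hx => simp [hx]
    exact hall (φ i) (by rw [hbspan]; trivial)
  have hdimeq : Module.finrank k U = Module.finrank k (Fin (m + 1) → k) := by rw [hU, Module.finrank_fin_fun]
  let E := LinearMap.linearEquivOfInjective P hP hdimeq
  refine ⟨s, fun x => ((E.symm (Pi.single x.2 1) : U) : Fin (n + 1) → k) x.1.1, hsinj, ?_⟩
  have hrep : ∀ (u : U) (i : Fin (n + 1)),
      (u : Fin (n + 1) → k) i = ∑ l, (u : Fin (n + 1) → k) (s l) * ((E.symm (Pi.single l 1) : U) : Fin (n + 1) → k) i := by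
    intro u i
    have h1 : u = ∑ l, (u : Fin (n + 1) → k) (s l) • E.symm (Pi.single l 1) := by
      rw [← E.symm_apply_apply u]
      conv_lhs => rw [pi_eq_sum_univ' (E u)]
      rw [map_sum]
      refine Finset.sum_congr rfl fun l _ => ?_
      rw [map_smul, E.symm_apply_apply]
      rfl
    conv_lhs => rw [h1]
    simp
  ext u
  refine ⟨fun hu i => (hrep ⟨u, hu⟩ i.1).trans (Finset.sum_congr rfl fun l _ => mul_comm _ _), fun hu => ?_⟩
  obtain ⟨v, hv⟩ := E.surjective fun l => u (s l)
  have hvl : ∀ l, (v : Fin (n + 1) → k) (s l) = u (s l) := fun l => congrFun hv l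
  have huv : u = (v : Fin (n + 1) → k) := funext fun i => by
    by_cases hi : i ∈ Set.range s
    · obtain ⟨l, rfl⟩ := hi
      exact (hvl l).symm
    · rw [hu ⟨i, hi⟩, hrep v i]
      exact Finset.sum_congr rfl fun l _ => by rw [hvl l]; exact mul_comm _ _
  rw [huv]
  exact v.2

theorem eval_shear {R : Type*} [CommRing R] {n m : ℕ} (s : Fin (m + 1) → Fin (n + 1)) (a : Compl s × Fin (m + 1) → R)
    (x : Fin (n + 1) → R) (p : MvPolynomial (Fin (n + 1)) R) :
    eval x (aeval (shear s a) p) = eval (fun i => eval x (shear s a i)) p := by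
  rw [← aeval_eq_eval, ← AlgHom.comp_apply, comp_aeval, ← aeval_eq_eval]

theorem aeval_shear_shear {R : Type*} [CommRing R] {n m : ℕ} (s : Fin (m + 1) → Fin (n + 1))
    (a : Compl s × Fin (m + 1) → R) (p : MvPolynomial (Fin (n + 1)) R) :
    aeval (shear s fun x => - a x) (aeval (shear s a) p) = p := by
  classical
  rw [← AlgHom.comp_apply, comp_aeval]
  refine (DFunLike.congr_fun (MvPolynomial.algHom_ext fun i => ?_ :
    _ = AlgHom.id R (MvPolynomial (Fin (n + 1)) R)) p)
  rw [aeval_X, AlgHom.id_apply]
  by_cases h : i ∈ Set.range s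
  · simp [shear, h]
  · have hl : ∀ l, shear s (fun x => - a x) (s l) = X (s l) := fun l => by simp [shear]
    have hi : shear s a i = X i + ∑ l, C (a (⟨i, h⟩, l)) * X (s l) := by simp [shear, h]
    rw [hi, map_add, map_sum]
    simp only [map_mul, aeval_C, aeval_X, hl, MvPolynomial.algebraMap_eq]
    simp [shear, h]

theorem exists_planeForm_of_vanishing {k : Type u} [Field k] [Infinite k] {n m d : ℕ} (s : Fin (m + 1) → Fin (n + 1))
    (a : Compl s × Fin (m + 1) → k) (G : MvPolynomial (Fin (n + 1)) k)
    (hG : G.IsHomogeneous d) (hvan : ∀ u ∈ planeOf s a, eval u G = 0) :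
    ∃ c : MonOut d s → k, G = planeForm s c a := by
  classical
  let P := aeval (shear s a) G
  have hPhom : P.IsHomogeneous d := by
    have h := hG.aeval (n := 1) (shear s a) fun i => by
      unfold shear
      split_ifs with h
      · exact isHomogeneous_X _ _
      · exact (isHomogeneous_X _ _).add (IsHomogeneous.sum _ _ _ fun l _ => by
          simpa using (isHomogeneous_C (Fin (n + 1)) (a (⟨i, h⟩, l))).mul (isHomogeneous_X k (s l)))
    rw [one_mul] at h
    exact h
  have hin : ∀ β : Mon n d, (∀ i ∈ β.1.support, i ∈ Set.range s) → P.coeff β.1 = 0 := by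
    let Q : MvPolynomial (Fin (n + 1)) k :=
      ∑ β ∈ P.support with (∀ i ∈ β.support, i ∈ Set.range s), monomial β (P.coeff β)
    have hQ : Q = 0 := by
      refine MvPolynomial.funext fun x => ?_
      let x' : Fin (n + 1) → k := fun i => if i ∈ Set.range s then x i else 0
      have h1 : eval x Q = eval x' P := by
        conv_rhs => rw [as_sum P, map_sum]
        simp only [Q, map_sum, Finset.sum_filter]
        refine Finset.sum_congr rfl fun β _ => ?_
        split_ifs with h
        · simp only [eval_monomial]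
          congr 1
          exact Finsupp.prod_congr fun i hi => by simp only [x', if_pos (h i hi)]
        · push Not at h
          obtain ⟨i, hi, his⟩ := h
          have hz : x' i ^ β i = 0 := by
            rw [show x' i = 0 from if_neg his, zero_pow (Finsupp.mem_support_iff.mp hi)]
          rw [map_zero, eval_monomial, Finsupp.prod, Finset.prod_eq_zero hi hz, mul_zero]
      rw [h1, map_zero]
      show eval x' (aeval (shear s a) G) = 0
      rw [eval_shear]
      refine hvan _ fun i => ?_
      have hl : ∀ l, eval x' (shear s a (s l)) = x (s l) := fun l => by simp [shear, x']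
      simp only [hl]
      have hi : shear s a i.1 = X i.1 + ∑ l, C (a (i, l)) * X (s l) := by simp [shear, i.2]
      rw [hi]
      simp only [map_add, eval_X, map_sum, map_mul, eval_C]
      rw [show x' i.1 = 0 from if_neg i.2, zero_add]
      refine Finset.sum_congr rfl fun l _ => ?_
      rw [show x' (s l) = x (s l) from if_pos ⟨l, rfl⟩]
    intro β hβ
    have h2 := congrArg (coeff β.1) hQ
    simp only [Q, coeff_sum, coeff_monomial, Finset.sum_ite_eq', Finset.mem_filter, mem_support_iff, coeff_zero] at h2
    by_contra hne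
    rw [if_pos ⟨hne, hβ⟩] at h2
    exact hne h2
  refine ⟨fun b => P.coeff b.1.1, ?_⟩
  rw [planeForm]
  have : outForm s (fun b : MonOut d s => P.coeff b.1.1) = P := by
    ext α
    rw [outForm, coeff_sum]
    simp only [coeff_monomial]
    by_cases hα : α.degree = d ∧ ¬ ∀ i ∈ α.support, i ∈ Set.range s
    · rw [Finset.sum_eq_single ⟨⟨α, hα.1⟩, hα.2⟩]
      · rw [if_pos rfl]
      · exact fun b _ hb => if_neg fun h => hb (Subtype.ext (Subtype.ext h))
      · simp
    · rw [Finset.sum_eq_zero fun b _ => if_neg fun h : b.1.1 = α => hα ⟨h ▸ b.1.2, h ▸ b.2⟩]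
      by_cases hd : α.degree = d
      · exact (hin ⟨α, hd⟩ (not_not.mp fun h => hα ⟨hd, h⟩)).symm
      · exact (hPhom.coeff_eq_zero hd).symm
  rw [this]
  exact (aeval_shear_shear s a G).symm

/-- Coordinates on forms. -/
noncomputable def formEquiv (k : Type u) [Field k] (n d : ℕ) : LefPen.Form n k d ≃ₗ[k] (Mon n d → k) where
  toFun G β := G.1.coeff β.1
  map_add' a b := funext fun s => by simp
  map_smul' c a := funext fun s => by simp
  invFun c := ⟨∑ β, monomial β.1 (c β), IsHomogeneous.sum _ _ _ fun β _ => isHomogeneous_monomial _ β.2⟩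
  left_inv G := Subtype.ext (MvPolynomial.ext _ _ fun α => by
    classical
    rw [coeff_sum]
    by_cases hα : α.degree = d
    · rw [Finset.sum_eq_single ⟨α, hα⟩]
      · rw [coeff_monomial, if_pos rfl]
      · exact fun b _ hb => by rw [coeff_monomial, if_neg fun h => hb (Subtype.ext h)]
      · simp
    · rw [(G.2 : G.1.IsHomogeneous d).coeff_eq_zero hα, Finset.sum_eq_zero]
      exact fun b _ => (coeff_monomial _ _ _).trans (if_neg fun h => hα ((congrArg Finsupp.degree h).symm.trans b.2)))
  right_inv c := funext fun β => by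
    classical
    simp [coeff_sum, coeff_monomial, Subtype.coe_inj]

theorem isGeneric_planes {k : Type u} [Field k] [IsAlgClosed k] (n m d : ℕ)
    (hle : (m + 1) * (n - m) ≤ Nat.choose (m + d) m) :
    LefPen.IsGeneric k {G : LefPen.Form n k d |
      {U : Submodule k (Fin (n + 1) → k) | Module.finrank k ↥U = m + 1 ∧ ∀ u ∈ U, eval u G.1 = 0}.Finite ∧
        ((m + 1) * (n - m) < Nat.choose (m + d) m → ∀ U : Submodule k (Fin (n + 1) → k),
          Module.finrank k ↥U = m + 1 → (∀ u ∈ U, eval u G.1 = 0) → False)} := by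
  classical
  let Ch := {s : Fin (m + 1) → Fin (n + 1) // Function.Injective s}
  choose f hf0 hf using fun s : Ch => exists_poly_planes (k := k) (d := d) s.1 s.2 hle
  refine isGeneric_of_coords (formEquiv k n d) _ (∏ s, f s) (Finset.prod_ne_zero_iff.mpr fun s _ => hf0 s)
    fun G hG => ?_
  rw [map_prod, Finset.prod_ne_zero_iff] at hG
  have key : ∀ U : Submodule k (Fin (n + 1) → k), Module.finrank k ↥U = m + 1 → (∀ u ∈ U, eval u G.1 = 0) →
      ∃ (s : Ch) (a : Compl s.1 × Fin (m + 1) → k),
        (∃ c, G.1 = planeForm (d := d) s.1 c a) ∧ (U : Set (Fin (n + 1) → k)) = planeOf s.1 a := by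
    intro U hU hv
    obtain ⟨s, a, hs, hUa⟩ := exists_chart U hU
    exact ⟨⟨s, hs⟩, a, exists_planeForm_of_vanishing s a G.1 G.2 (fun u hu => hv u (by
      rw [← SetLike.mem_coe, hUa]; exact hu)), hUa⟩
  refine ⟨?_, fun hlt U hU hv => ?_⟩
  · let S : Set (Σ s : Ch, Compl s.1 × Fin (m + 1) → k) := {p | ∃ c, G.1 = planeForm (d := d) p.1.1 c p.2}
    have hS : S.Finite := by
      refine (Set.finite_iUnion fun s : Ch => ((hf s G.1 (hG s (Finset.mem_univ s))).1).image (Sigma.mk s)).subset ?_
      rintro ⟨s, a⟩ h
      exact Set.mem_iUnion.mpr ⟨s, a, h, rfl⟩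
    refine Set.Finite.of_finite_image (f := fun U : Submodule k (Fin (n + 1) → k) => (U : Set (Fin (n + 1) → k)))
      ((hS.image fun p => planeOf p.1.1 p.2).subset ?_) SetLike.coe_injective.injOn
    rintro _ ⟨U, ⟨hU, hv⟩, rfl⟩
    obtain ⟨s, a, hc, hUa⟩ := key U hU hv
    exact ⟨⟨s, a⟩, hc, hUa.symm⟩
  · obtain ⟨s, a, ⟨c, hc⟩, -⟩ := key U hU hv
    exact (hf s G.1 (hG s (Finset.mem_univ s))).2 hlt a c hc

end Groth.Agent.ForSys
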